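import Cfsg.Agent.H679.OutTwo
import Cfsg.Agent.UGT.End.MEleven
import Cfsg.Agent.OddHalf.Table.OutMTwelve
import Cfsg.Agent.J4Type.Aut22
import Cfsg.Agent.SporadicA.MathieuRecog
import Cfsg.Agent.UGT.MTwentyThree.Aut
import Cfsg.Agent.KFacts.M24Two.Out
import Cfsg.Agent.OddHalf.D4.Spor.J1Out
import Cfsg.Agent.OddHalf.Table.OutJ2
import Cfsg.Agent.S1619
import Cfsg.Agent.OddHalf.D8.RowJ3
import Cfsg.Agent.KFacts.J4.SheetJ4
import Cfsg.Agent.ConwayFacts.AutCo1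
import Cfsg.Agent.KFacts.CoTwo.QuotInst
import Cfsg.Agent.Schreier.CoTwoStab
import Cfsg.Agent.KFacts.Co3.Sheet
import Cfsg.Agent.SporRec.Co3.Model
import Cfsg.Agent.UGT.End.McLOuter
import Cfsg.Agent.TypeM.FactsMcL
import Cfsg.Agent.HN.AutHS
import Cfsg.Agent.KFacts.SuzOut
import Cfsg.Agent.OddHalf.Table.OutRu
import Cfsg.Agent.OddHalf.D8.SheetMap_m3
import Cfsg.Agent.TypeM.OutLyFin
import Cfsg.Agent.R08.X4Gamma_m3
import Cfsg.Agent.KFacts.FiTTh.Has
import Cfsg.Agent.KFacts.FiTF.FrameF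
import Cfsg.Agent.KFacts.HN.Sheet
import Cfsg.Agent.KFacts.Th.Main
import Cfsg.Agent.EvenType.ChevTwoTits
import Cfsg.Agent.FourTwo.Perf
import Cfsg.Agent.FastGrp
import Cfsg.Agent.Prune
set_option linter.all false
prune_inst 0x7f00000000000000000000000000000000000000000000000000000000000000000000000000000000000000000000000000000000000000000000000000000000000000000000000000000000000000003fffffffffffffffffffffffffffbeffbdffffffff
open scoped Cfsg.Agent.FastGrp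

/-!
# Outer automorphisms of the sporadic groups: all but `He`, `B`, `M` (helper679)

`OutTwo K` for the sporadic groups and the Tits group (proofs after `BpSpor.Inn`, helper5).
-/

set_option autoImplicit false

namespace Cfsg.Agent.H679.SporOut

open Cfsg Cfsg.Agent.H679 Cfsg.Agent.H679.OutTwo

theorem m11 {K : Type*} [Group K] (h : Spor.IsoM11 K) : OutTwo K := by
  have : Finite K := by
    obtain ⟨e⟩ := h
    exact Finite.of_equiv _ e.symm.toEquiv
  exact of_inner (Cfsg.Agent.UGT.End.MEleven.inner h)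

theorem m12 {K : Type*} [Group K] (h : Spor.IsoM12 K) : OutTwo K := by
  obtain ⟨e⟩ := h
  exact OutTwo.congr e (of_mem_or_mem Cfsg.Agent.OddHalf.Table.OutMTwelve.al_mul_al
    Cfsg.Agent.OddHalf.Table.OutMTwelve.mem_or_mem)

theorem m23 {K : Type*} [Group K] (h : Spor.IsoM23 K) : OutTwo K := by
  obtain ⟨e⟩ := h
  exact OutTwo.congr e (of_inner fun α => Cfsg.Agent.UGT.MTwentyThree.Aut.exists_conj α)

theorem m24 {K : Type*} [Group K] (h : Spor.IsoM24 K) : OutTwo K := by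
  obtain ⟨e⟩ := h
  exact OutTwo.congr e (of_inner fun α => Cfsg.Agent.KFacts.M24Two.Out.exists_conj α)

theorem j1 {K : Type*} [Group K] (h : Spor.IsoJ1 K) : OutTwo K := by
  obtain ⟨e⟩ := h
  exact OutTwo.congr e (of_inner fun α => Cfsg.Agent.OddHalf.D4.Spor.J1Out.inn α)

theorem j3 {K : Type*} [Group K] (h : Spor.IsoJ3 K) : OutTwo K := by
  obtain ⟨z, Q, v, ρ, M, hc, hi, hs⟩ := Cfsg.Agent.OddHalf.D8.RowJ3.sheet' K h
  exact of_index hi

theorem j4 {K : Type*} [Group K] (h : Spor.IsoJ4 K) : OutTwo K := by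
  obtain ⟨h1, h2, ⟨F⟩⟩ := Cfsg.Agent.KFacts.J4.Base.exists_full h
  exact of_inner (Cfsg.Agent.KFacts.J4.SheetJ4.inner F)

theorem co1 {K : Type*} [Group K] (h : Spor.IsoCo1 K) : OutTwo K := by
  obtain ⟨e⟩ := h
  refine OutTwo.congr e (of_inner fun α => ?_)
  obtain ⟨s, hs⟩ := Cfsg.Agent.ConwayFacts.AutCo1.inner α
  exact ⟨s, MulEquiv.ext fun g => by rw [hs, MulAut.conj_apply]⟩

theorem co2 {K : Type*} [Group K] (h : Spor.IsoCo2 K) : OutTwo K := by
  obtain ⟨e⟩ := h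
  have := Cfsg.Agent.Schreier.CoTwoStab.finite
  exact OutTwo.congr e (of_inner fun α => Cfsg.Agent.KFacts.CoTwo.QuotInst.dataT.allInner α)

theorem co3 {K : Type*} [Group K] (h : Spor.IsoCo3 K) : OutTwo K := by
  obtain ⟨e⟩ := h
  exact of_inner fun α =>
    Cfsg.Agent.KFacts.Co3.Sheet.inner_of (e.trans Cfsg.Agent.SporRec.Co3.Model.equivCo3.symm).symm α

theorem mcl {K : Type*} [Group K] (h : Spor.IsoMcL K) : OutTwo K := by
  obtain ⟨hfin, hs, hcard, ⟨L⟩⟩ := Cfsg.Agent.TypeM.FactsMcL.facts h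
  exact of_odd fun α hα => Cfsg.Agent.UGT.End.McLOuter.inner_of_odd L hcard α hα

theorem suz {K : Type*} [Group K] (h : Spor.IsoSuz K) : OutTwo K := by
  obtain ⟨e⟩ := h
  exact OutTwo.congr e (of_index Cfsg.Agent.KFacts.SuzOut.index_eq)

theorem ru {K : Type*} [Group K] (h : Spor.IsoRu K) : OutTwo K := by
  obtain ⟨e⟩ := h
  exact OutTwo.congr (e.trans RuLat.Main.equiv) (of_inner Cfsg.Agent.OddHalf.Table.OutRu.inner)

theorem on {K : Type*} [Group K] (h : Spor.IsoON K) : OutTwo K := by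
  obtain ⟨e⟩ := h
  refine OutTwo.congr e (of_index ?_)
  have h1 := Cfsg.Agent.KFacts.ON.Aut.index_le
  have h2 := Cfsg.Agent.KFacts.ON.Aut.finite_aut
  have h0 : (MulAut.conj : Cfsg.Spor.ON →* MulAut Cfsg.Spor.ON).range.index ≠ 0 := Subgroup.index_ne_zero_of_finite
  omega

theorem ly {K : Type*} [Group K] (h : Spor.IsoLy K) : OutTwo K :=
  of_inner' (Cfsg.Agent.TypeM.OutLyFin.inner h)

theorem fi22 {K : Type*} [Group K] (h : Spor.IsoFi22 K) : OutTwo K := by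
  obtain ⟨e⟩ := h
  refine OutTwo.congr e (of_sq fun α => ?_)
  by_cases hα : ∃ x, α = MulAut.conj x
  · obtain ⟨x, rfl⟩ := hα
    exact ⟨x * x, by rw [map_mul]⟩
  · push Not at hα
    exact Cfsg.Agent.OddHalf.Table.OutFi22.mul_outer α α hα hα

theorem fi23 {K : Type*} [Group K] (h : Spor.IsoFi23 K) : OutTwo K := by
  obtain ⟨e⟩ := h
  exact OutTwo.congr e (of_inner Cfsg.Agent.KFacts.FiTTh.Has.inn)

theorem fi24 {K : Type*} [Group K] (h : Spor.IsoFi24' K) : OutTwo K := by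
  obtain ⟨e⟩ := h
  exact OutTwo.congr e (of_dvd_two Cfsg.Agent.KFacts.FiTF.out)

theorem hn {K : Type*} [Group K] (h : Spor.IsoHN K) : OutTwo K := by
  obtain ⟨e⟩ := h
  exact OutTwo.congr e (of_index Cfsg.Agent.KFacts.HN.out_index)

theorem th {K : Type*} [Group K] (h : Spor.IsoTh K) : OutTwo K := by
  obtain ⟨e⟩ := h
  exact OutTwo.congr e (of_inner Cfsg.Agent.KFacts.Th.Main.inner)

section m22

open Cfsg.Agent.J4Type.Aut22 (D22 mem_D22_iff M22_le_D22 exists_conj eq_one_of_centralizes)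
open Cfsg.Agent.SporadicA.MathieuRecog (mem_M22_iff simple_M22)

theorem sq_mem_M22 {d : Equiv.Perm GolayPt} (hd : d ∈ D22) : d * d ∈ Spor.M22 := by
  obtain ⟨hM, h⟩ := (mem_D22_iff d).1 hd
  refine (mem_M22_iff _).2 ⟨M24.mul_mem hM hM, ?_⟩
  rcases h with h | h
  · exact ⟨by rw [Equiv.Perm.mul_apply, h.1, h.1], by rw [Equiv.Perm.mul_apply, h.2, h.2]⟩
  · exact ⟨by rw [Equiv.Perm.mul_apply, h.1, h.2], by rw [Equiv.Perm.mul_apply, h.2, h.1]⟩

theorem m22 {K : Type*} [Group K] (h : Spor.IsoM22 K) : OutTwo K := by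
  obtain ⟨e⟩ := h
  refine OutTwo.congr e (of_pow fun φ => ?_)
  obtain ⟨d, hd, hφ⟩ := exists_conj φ
  refine ⟨⟨d * d, sq_mem_M22 hd⟩, ?_⟩
  ext1 x
  apply Subtype.ext
  show d * d * (x : Equiv.Perm GolayPt) * (d * d)⁻¹ = (((φ ^ 2) x : ↥Spor.M22) : Equiv.Perm GolayPt)
  rw [pow_two, MulAut.mul_apply, hφ, hφ]
  group

end m22

section hs

open Cfsg.Agent.SporadicA.PermTab Cfsg.Agent.HN.HS100 Cfsg.Agent.HN.AutBound Cfsg.Agent.HN.AutHS Equiv

theorem hs_Q : OutTwo Q := by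
  refine of_pow fun α => ?_
  obtain ⟨p, hp, h⟩ := exists_perm α
  have hpp : p * p ∈ Q := mem_Q_iff.2 ⟨mul_mem hp hp, by rw [map_mul, Int.units_mul_self]⟩
  refine ⟨⟨p * p, hpp⟩, ?_⟩
  ext1 x
  apply Subtype.ext
  show p * p * (x : Perm (Fin 100)) * (p * p)⁻¹ = (((α ^ 2) x : Q) : Perm (Fin 100))
  rw [pow_two, MulAut.mul_apply, h, h]
  group

theorem hs {K : Type*} [Group K] (h : Spor.IsoHS K) : OutTwo K := by
  obtain ⟨e⟩ := h
  obtain ⟨f⟩ := nonempty_Q.1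
  exact OutTwo.congr (e.trans f.symm) hs_Q

end hs

section j2

open Equiv Cfsg.Agent.OddHalf.Table Cfsg.Agent.OddHalf.Table.OutJ2 Cfsg.Agent.SporadicA.PermTab
open Cfsg.Agent.SporadicA.J2Data Cfsg.Agent.SporadicA.J2Hundred

theorem hundred : OutTwo G := by
  apply of_mul_inv
  intro a b ha hb
  refine CycNorm.mul_inv_inner_of (X := G) (p := 7) (m := 3) (N := 3) (by norm_num) (x := ⟨x, x_mem⟩)
    (f := ⟨f, f_mem⟩) (y := ⟨y, y_mem⟩) ?_ ?_ ?_ ?_ (by decide) (by decide) ?_ ?_ ?_ ?_ ?_ closure_eq ha hb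
  · rw [Subgroup.orderOf_mk]; exact order_x
  · rw [card_G]; norm_num
  · rintro ⟨c, hc⟩ h
    obtain ⟨i, hi⟩ := cent_x hc (congrArg Subtype.val h)
    exact ⟨i, Subtype.ext hi⟩
  · exact Subtype.ext fx
  · rw [Subgroup.orderOf_mk]; exact order_f
  · exact Subtype.ext y2
  · exact Subtype.ext yf
  · intro i h
    exact y_ne_pow i (congrArg Subtype.val h)
  · rintro ⟨c, hc⟩ h
    obtain ⟨i, hi | hi⟩ := cent_f hc (congrArg Subtype.val h)
    · exact ⟨i, Or.inl (Subtype.ext hi)⟩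
    · exact ⟨i, Or.inr (Subtype.ext hi)⟩

theorem j2 {K : Type*} [Group K] (h : Spor.IsoJ2 K) : OutTwo K := by
  obtain ⟨e⟩ := h
  obtain ⟨f⟩ := Cfsg.Agent.J2.HundredGens.J2_iso Cfsg.Agent.S1619.result.2.2.2
  exact OutTwo.congr (e.trans f) hundred

end j2

theorem tits_TT : OutTwo ↥Cfsg.Agent.TitsK.TT := by
  have hfin : Finite Cfsg.Agent.FourTwo.Base.LL := Cfsg.Agent.FourTwo.Perf.instFiniteLL
  have h := Cfsg.Agent.TitsK.tdata.index_inn
  refine of_dvd_two ?_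
  refine dvd_trans ?_ h
  exact dvd_refl _

theorem exists_tits_TT {K : Type*} [Group K] (h : Lie.IsoTits K) : Nonempty (K ≃* ↥Cfsg.Agent.TitsK.TT) := by
  obtain ⟨e⟩ := h
  obtain ⟨e'⟩ := Cfsg.Agent.TitsK.exists_equiv
  exact ⟨e.trans e'⟩

theorem tits {K : Type*} [Group K] (h : Lie.IsoTits K) : OutTwo K := by
  obtain ⟨e⟩ := exists_tits_TT h
  have h1 := tits_TT
  exact OutTwo.congr (L := ↥Cfsg.Agent.TitsK.TT) e h1

end Cfsg.Agent.H679.SporOut
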