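import Mathlib
import Cfsg.Agent.FastGrp
import Cfsg.Agent.Prune
set_option linter.all false
prune_inst 0x7f00000000000000000000000000000000000000000000000000000000000000000000000000000000000000000000000000000000000000000000000000000000000000000000000000000000000000003fffffffffffffffffffffffffffbeffbdffffffff
open scoped Cfsg.Agent.FastGrp

/-!
# Groups whose outer automorphism group is a `2`-group (helper679)

`OutTwo K` : every automorphism of `K` has a power `α ^ 2 ^ n` which is inner.
-/

set_option autoImplicit false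

namespace Cfsg.Agent.H679

open Subgroup

universe u v

/-- every automorphism has a `2`-power power which is inner -/
def OutTwo (K : Type*) [Group K] : Prop :=
  ∀ α : MulAut K, ∃ n : ℕ, α ^ 2 ^ n ∈ (MulAut.conj : K →* MulAut K).range

theorem conj_range_normal' (K : Type*) [Group K] : ((MulAut.conj : K →* MulAut K).range).Normal := by
  refine ⟨?_⟩
  rintro _ ⟨k, rfl⟩ α
  refine ⟨α k, ?_⟩
  ext x
  simp [MulAut.conj_apply, MulAut.mul_apply]

namespace OutTwo

theorem congr {K : Type u} {L : Type v} [Group K] [Group L] (e : K ≃* L) (h : OutTwo L) : OutTwo K := by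
  intro α
  obtain ⟨n, y, hy⟩ := h (MulAut.congr e α)
  refine ⟨n, e.symm y, ?_⟩
  apply (MulAut.congr e).injective
  rw [map_pow, ← hy]
  ext x
  change e (e.symm y * e.symm x * (e.symm y)⁻¹) = y * x * y⁻¹
  simp

theorem of_pow {K : Type*} [Group K] (h : ∀ x : MulAut K, x ^ 2 ∈ (MulAut.conj : K →* MulAut K).range) : OutTwo K :=
  fun α => ⟨1, by rw [pow_one]; exact h α⟩

theorem of_sq {K : Type*} [Group K] (h : ∀ x : MulAut K, ∃ g : K, x * x = MulAut.conj g) : OutTwo K :=
  of_pow fun x => by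
    obtain ⟨g, hg⟩ := h x
    exact ⟨g, by rw [pow_two, hg]⟩

theorem of_inner {K : Type*} [Group K] (h : ∀ x : MulAut K, ∃ g : K, x = MulAut.conj g) : OutTwo K :=
  fun α => by
    obtain ⟨g, hg⟩ := h α
    exact ⟨0, g, by rw [pow_zero, pow_one, hg]⟩

theorem of_inner' {K : Type*} [Group K] (h : ∀ x : MulAut K, x ∈ (MulAut.conj : K →* MulAut K).range) : OutTwo K :=
  fun α => ⟨0, by rw [pow_zero, pow_one]; exact h α⟩

theorem of_dvd_two {K : Type*} [Group K] (h : (MulAut.conj : K →* MulAut K).range.index ∣ 2) : OutTwo K := by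
  have hn := conj_range_normal' K
  refine of_pow fun x => ?_
  obtain ⟨m, hm⟩ := h
  rw [hm, pow_mul]
  exact pow_mem (Subgroup.pow_index_mem _ x) m

theorem of_index {K : Type*} [Group K] (h : (MulAut.conj : K →* MulAut K).range.index = 1 ∨
    (MulAut.conj : K →* MulAut K).range.index = 2) : OutTwo K :=
  of_dvd_two (by rcases h with h | h <;> rw [h]; norm_num)

/-- products `b * a⁻¹` of non-inner automorphisms are inner -/
theorem of_mul_inv {K : Type*} [Group K] (h : ∀ a b : MulAut K, (∀ u, a ≠ MulAut.conj u) →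
    (∀ u, b ≠ MulAut.conj u) → ∃ u : K, b * a⁻¹ = MulAut.conj u) : OutTwo K := by
  refine of_sq fun x => ?_
  by_cases hx : ∃ u, x = MulAut.conj u
  · obtain ⟨u, rfl⟩ := hx
    exact ⟨u * u, by rw [map_mul]⟩
  · push Not at hx
    obtain ⟨u, hu⟩ := h x⁻¹ x (fun v hv => hx v⁻¹ (by rw [map_inv, ← hv, inv_inv])) hx
    exact ⟨u, by rw [← hu, inv_inv]⟩

theorem of_mem_or_mem {K : Type*} [Group K] {a : MulAut K} (ha : a * a = 1)
    (h : ∀ φ : MulAut K, φ ∈ (MulAut.conj : K →* MulAut K).range ∨ a * φ ∈ (MulAut.conj : K →* MulAut K).range) :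
    OutTwo K := by
  apply of_pow
  intro α
  rcases h α with h1 | ⟨x, hx⟩
  · exact pow_mem h1 2
  · have h2 : α = a * MulAut.conj x := by rw [hx, ← mul_assoc, ha, one_mul]
    refine ⟨a x * x, ?_⟩
    rw [h2, pow_two]
    ext u
    have h3 : ∀ v : K, a (a v) = v := fun v => by
      rw [← MulAut.mul_apply, ha, MulAut.one_apply]
    simp only [MulAut.mul_apply, MulAut.conj_apply, map_mul, map_inv, h3, mul_inv_rev, mul_assoc]

/-- automorphisms of odd order are inner -/
theorem of_odd {K : Type*} [Group K] [Finite K] (h : ∀ α : MulAut K, Odd (orderOf α) → ∃ g : K, MulAut.conj g = α) :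
    OutTwo K := by
  intro α
  have hfin : Finite (MulAut K) := Finite.of_injective (fun f : MulAut K => (f : K → K)) DFunLike.coe_injective
  have h0 : orderOf α ≠ 0 := (orderOf_pos α).ne'
  obtain ⟨n, m, hm, hnm⟩ := Nat.exists_eq_two_pow_mul_odd h0
  refine ⟨n, ?_⟩
  obtain ⟨g, hg⟩ := h (α ^ 2 ^ n) (by
    rw [orderOf_pow_of_dvd (by positivity) (by rw [hnm]; exact dvd_mul_right _ _), hnm,
      Nat.mul_div_cancel_left _ (by positivity)]
    exact hm)
  exact ⟨g, hg⟩

end OutTwo

/-- the automorphisms of an alternating group induced by permutations -/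
theorem OutTwo.alt {n : ℕ} (h : ∀ e : MulAut (alternatingGroup (Fin n)), ∃ σ : Equiv.Perm (Fin n),
    ∀ x : alternatingGroup (Fin n), (e x : Equiv.Perm (Fin n)) = σ * x * σ⁻¹) :
    OutTwo (alternatingGroup (Fin n)) := by
  refine OutTwo.of_pow fun α => ?_
  obtain ⟨σ, hσ⟩ := h α
  have hs : σ * σ ∈ alternatingGroup (Fin n) := by
    rw [Equiv.Perm.mem_alternatingGroup, map_mul, Int.units_mul_self]
  refine ⟨⟨σ * σ, hs⟩, ?_⟩
  ext1 x
  apply Subtype.ext
  show σ * σ * (x : Equiv.Perm (Fin n)) * (σ * σ)⁻¹ = (((α ^ 2) x : alternatingGroup (Fin n)) : Equiv.Perm (Fin n))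
  rw [pow_two, MulAut.mul_apply, hσ, hσ]
  group

end Cfsg.Agent.H679
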