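import Mathlib
import Cfsg.Agent.Characters.Linear
import Cfsg.Agent.Characters.Values
import Cfsg.Agent.Blocks.Basic
import Cfsg.Agent.S0145
import Cfsg.Agent.FastGrp
import Cfsg.Agent.Prune
set_option linter.all false

section
prune_inst 0x7f00000000000000000000000000000000000000000000000000000000000000000000000000000000000000000000000000000000000000000000000000000000000000000000000000000000000000003fffffffffffffffffffffffffffbeffbdfbfeffff

-- part: H679/OneFix
section
prune_inst 0x4010000
set_option linter.all false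
open scoped Cfsg.Agent.FastGrp

/-!
# Cosets of normal subgroups inside one conjugacy class: unique fixed points

`CC N g` : every element of the coset `g N` is conjugate to `g`.

* `existsUnique_fix` : if `CC N g`, then `g` has exactly one fixed point on every finite nonempty `G`-set on which
  `N` is transitive;
* `coinduction` : let `S ≤ N` with `S ≤ B`, the conjugates of `S` by elements outside `B` lying in `B` and being in
  the kernel of `φ : B →* A`, and let `z` be a generator of `B ∩ ⟨g⟩`. Then `φ z` has exactly one fixed point on every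
  finite nonempty `A`-set on which `φ(S)` is transitive.
-/

set_option autoImplicit false

namespace Cfsg.Agent.H679

open Subgroup MulAction

variable {G : Type*} [Group G]

/-- Every element of the coset `g N` is conjugate to `g`. -/
def CC (N : Subgroup G) (g : G) : Prop := ∀ n ∈ N, ∃ y : G, y * g * y⁻¹ = g * n

/-- counting pairs -/
theorem card_pairs {S Ω : Type*} [Group S] [Finite S] [MulAction S Ω] [Finite Ω] [Nonempty Ω]
    (ht : ∀ a b : Ω, ∃ s : S, s • a = b) (f : Ω → Ω) :
    Nat.card {p : S × Ω // p.1 • p.2 = f p.2} = Nat.card S := by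
  classical
  have := Fintype.ofFinite S
  have := Fintype.ofFinite Ω
  obtain ⟨ω⟩ := ‹Nonempty Ω›
  -- fibres
  have h1 : ∀ c : Ω, Nat.card {s : S // s • c = f c} = Nat.card (stabilizer S c) := by
    intro c
    obtain ⟨t, ht'⟩ := ht c (f c)
    refine Nat.card_congr ⟨fun s => ⟨t⁻¹ * s.1, ?_⟩, fun s => ⟨t * s.1, ?_⟩, ?_, ?_⟩
    · rw [mem_stabilizer_iff, mul_smul, s.2, ← ht', inv_smul_smul]
    · have := s.2
      rw [mem_stabilizer_iff] at this
      rw [mul_smul, this, ht']
    · intro s; ext; simp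
    · intro s; ext; simp
  have h2 : ∀ c : Ω, Nat.card (stabilizer S c) = Nat.card (stabilizer S ω) := by
    intro c
    obtain ⟨t, rfl⟩ := ht ω c
    exact Nat.card_congr (stabilizerEquivStabilizer (G := S) (g := t⁻¹) (a := t • ω) (b := ω)
      (by rw [inv_smul_smul])).toEquiv
  have h3 : Nat.card {p : S × Ω // p.1 • p.2 = f p.2} = ∑ c : Ω, Nat.card {s : S // s • c = f c} := by
    have e : {p : S × Ω // p.1 • p.2 = f p.2} ≃ Σ c : Ω, {s : S // s • c = f c} :=
      ⟨fun p => ⟨p.1.2, p.1.1, p.2⟩, fun q => ⟨(q.2.1, q.1), q.2.2⟩, fun p => rfl, fun q => rfl⟩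
    rw [Nat.card_congr e, Nat.card_sigma]
  rw [h3, Finset.sum_congr rfl fun c _ => (h1 c).trans (h2 c), Finset.sum_const, smul_eq_mul, Finset.card_univ]
  have h4 := card_orbit_mul_card_stabilizer_eq_card_group S ω
  have h5 : orbit S ω = Set.univ := by
    ext x
    simp only [Set.mem_univ, iff_true]
    obtain ⟨s, hs⟩ := ht ω x
    exact ⟨s, hs⟩
  have h6 : Fintype.card (orbit S ω) = Fintype.card Ω := by
    rw [Fintype.card_congr (Equiv.setCongr h5), Fintype.card_congr (Equiv.Set.univ Ω)]
  rw [Nat.card_eq_fintype_card, Nat.card_eq_fintype_card, ← h4, h6]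

/-- **Unique fixed points.** -/
theorem existsUnique_fix [Finite G] {N : Subgroup G} {g : G} (h : CC N g) {Ω : Type*} [MulAction G Ω] [Finite Ω]
    [Nonempty Ω] (ht : ∀ a b : Ω, ∃ n ∈ N, n • a = b) : ∃! c : Ω, g • c = c := by
  classical
  have hfin : Fintype Ω := Fintype.ofFinite Ω
  have hfinN : Fintype N := Fintype.ofFinite N
  have hN : ∀ a b : Ω, ∃ s : N, s • a = b := fun a b => by
    obtain ⟨n, hn, h⟩ := ht a b
    exact ⟨⟨n, hn⟩, h⟩
  have h1 := card_pairs (S := N) hN (fun c => g⁻¹ • c)
  have h2 : Nat.card {p : N × Ω // p.1 • p.2 = g⁻¹ • p.2} =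
      ∑ n : N, Nat.card {c : Ω // n • c = g⁻¹ • c} := by
    have e : {p : N × Ω // p.1 • p.2 = g⁻¹ • p.2} ≃ Σ n : N, {c : Ω // n • c = g⁻¹ • c} :=
      ⟨fun p => ⟨p.1.1, p.1.2, p.2⟩, fun q => ⟨(q.1, q.2.1), q.2.2⟩, fun p => rfl, fun q => rfl⟩
    rw [Nat.card_congr e, Nat.card_sigma]
  have h3 : ∀ n : N, Nat.card {c : Ω // n • c = g⁻¹ • c} = Nat.card {c : Ω // g • c = c} := by
    intro n
    obtain ⟨y, hy⟩ := h n n.2
    have key : ∀ c : Ω, n • c = g⁻¹ • c ↔ g • (y⁻¹ • c) = y⁻¹ • c := by
      intro c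
      have e1 : (n • c = g⁻¹ • c) ↔ (g * (n : G)) • c = c := by
        rw [mul_smul]
        constructor
        · intro h'
          have : (n : G) • c = g⁻¹ • c := h'
          rw [this, smul_inv_smul]
        · intro h'
          have : g⁻¹ • (g • ((n : G) • c)) = g⁻¹ • c := by rw [h']
          rw [inv_smul_smul] at this
          exact this
      rw [e1, ← hy, mul_smul, mul_smul]
      constructor
      · intro h'
        rw [eq_inv_smul_iff]
        exact h'
      · intro h'
        rw [h', smul_inv_smul]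
    refine Nat.card_congr ⟨fun c => ⟨y⁻¹ • c.1, (key c.1).1 c.2⟩, fun c => ⟨y • c.1, (key _).2 ?_⟩, ?_, ?_⟩
    · rw [inv_smul_smul]; exact c.2
    · intro c; ext; simp
    · intro c; ext; simp
  rw [h2, Finset.sum_congr rfl fun n _ => h3 n, Finset.sum_const, smul_eq_mul, Finset.card_univ,
    Nat.card_eq_fintype_card (α := N)] at h1
  have h4 : Nat.card {c : Ω // g • c = c} = 1 := by
    have hpos : 0 < Fintype.card N := Fintype.card_pos
    exact Nat.eq_of_mul_eq_mul_left hpos (by rw [h1, mul_one])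
  rw [Nat.card_eq_one_iff_unique] at h4
  obtain ⟨h5, ⟨c⟩⟩ := h4
  exact ⟨c.1, c.2, fun d hd => congrArg Subtype.val (h5.elim ⟨d, hd⟩ c)⟩

/-! ### Coinduction -/

section Coind

variable {A : Type*} [Group A] {B : Subgroup G} (φ : B →* A) (Ω : Type*) [MulAction A Ω]

/-- The coinduced set. -/
def CoInd : Type _ := {f : G → Ω // ∀ (b : B) (x : G), f (b * x) = φ b • f x}

/-- The action on the coinduced set. -/
@[reducible] def coIndAction : MulAction G (CoInd φ Ω) where
  smul g f := ⟨fun x => f.1 (x * g), fun b x => by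
    change f.1 (b * x * g) = φ b • f.1 (x * g)
    rw [mul_assoc]; exact f.2 b (x * g)⟩
  one_smul f := Subtype.ext (funext fun x => by
    change f.1 (x * 1) = f.1 x
    rw [mul_one])
  mul_smul g h f := Subtype.ext (funext fun x => by
    change f.1 (x * (g * h)) = f.1 (x * g * h)
    rw [mul_assoc])

variable {φ Ω}

theorem coInd_finite [Finite G] [Finite Ω] : Finite (CoInd φ Ω) := by
  unfold CoInd; infer_instance

/-- the `B`-component of an element -/
noncomputable def comp (B : Subgroup G) (x : G) : B :=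
  ⟨x * (Quotient.out (Quotient.mk (QuotientGroup.rightRel B) x))⁻¹, by
    have h := Quotient.mk_out (s := QuotientGroup.rightRel B) x
    exact QuotientGroup.rightRel_apply.1 h⟩

theorem comp_mul (b : B) (x : G) : comp B (b * x) = b * comp B x := by
  apply Subtype.ext
  have h : (Quotient.mk (QuotientGroup.rightRel B) ((b : G) * x)) = Quotient.mk (QuotientGroup.rightRel B) x := by
    apply Quotient.sound
    show QuotientGroup.rightRel B _ _
    rw [QuotientGroup.rightRel_apply]
    have : x * ((b : G) * x)⁻¹ = (b : G)⁻¹ := by group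
    rw [this]
    exact inv_mem b.2
  change (b : G) * x * _ = (b : G) * (x * _)
  rw [h, mul_assoc]

theorem coInd_nonempty [Nonempty Ω] : Nonempty (CoInd φ Ω) := by
  obtain ⟨ω⟩ := ‹Nonempty Ω›
  exact ⟨⟨fun x => φ (comp B x) • ω, fun b x => by
    change φ (comp B (b * x)) • ω = φ b • φ (comp B x) • ω
    rw [comp_mul, map_mul, mul_smul]⟩⟩

/-- transitivity on the coinduced set -/
theorem coInd_trans [Finite G] {S N : Subgroup G} (hSB : S ≤ B)
    (hk : ∀ y : G, y ∉ B → ∀ s ∈ S, ∃ h : y * s * y⁻¹ ∈ B, φ ⟨y * s * y⁻¹, h⟩ = 1)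
    (hN : ∀ y : G, ∀ s ∈ S, y * s * y⁻¹ ∈ N)
    (ht : ∀ a b : Ω, ∃ s, ∃ hs : s ∈ S, φ ⟨s, hSB hs⟩ • a = b) (f f' : CoInd φ Ω) :
    letI := coIndAction φ Ω
    ∃ n ∈ N, n • f = f' := by
  let _ := coIndAction φ Ω
  -- induction on the number of points where `f` and `f'` differ
  suffices H : ∀ k : ℕ, ∀ f : CoInd φ Ω, {x | f.1 x ≠ f'.1 x}.ncard = k → ∃ n ∈ N, n • f = f' from H _ f rfl
  intro k
  induction k using Nat.strong_induction_on with
  | _ k ih =>
  intro f hf
  by_cases hD : ∃ x, f.1 x ≠ f'.1 x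
  · obtain ⟨x0, hx0⟩ := hD
    obtain ⟨s, hs, hs'⟩ := ht (f.1 x0) (f'.1 x0)
    set m : G := x0⁻¹ * s * x0 with hm
    have hmN : m ∈ N := by
      have := hN x0⁻¹ s hs
      rwa [inv_inv] at this
    have hval : ∀ x, (m • f).1 x = f.1 x ∨ (m • f).1 x = f'.1 x := by
      intro x
      have e0 : (m • f).1 x = f.1 (x * m) := rfl
      by_cases hy : x * x0⁻¹ ∈ B
      · right
        have e1 : x = ((⟨x * x0⁻¹, hy⟩ : B) : G) * x0 := by simp
        have e2 : x * m = ((⟨x * x0⁻¹, hy⟩ : B) : G) * (((⟨s, hSB hs⟩ : B) : G) * x0) := by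
          simp only [hm]; group
        rw [e0, e2, f.2, f.2, hs']
        conv_rhs => rw [e1]
        rw [f'.2]
      · left
        obtain ⟨h1, h2⟩ := hk _ hy s hs
        have e2 : x * m = ((⟨x * x0⁻¹ * s * (x * x0⁻¹)⁻¹, h1⟩ : B) : G) * x := by
          simp only [hm]; group
        rw [e0, e2, f.2, h2, one_smul]
    have hsub : {x | (m • f).1 x ≠ f'.1 x} ⊂ {x | f.1 x ≠ f'.1 x} := by
      refine ⟨fun x hx => ?_, fun hle => ?_⟩
      · rcases hval x with h | h
        · have hx' : (m • f).1 x ≠ f'.1 x := hx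
          rw [h] at hx'
          exact hx'
        · exact absurd h hx
      · have h1 : x0 ∈ {x | (m • f).1 x ≠ f'.1 x} := hle hx0
        apply h1
        have e0 : (m • f).1 x0 = f.1 (x0 * m) := rfl
        have e2 : x0 * m = ((⟨s, hSB hs⟩ : B) : G) * x0 := by simp only [hm]; group
        rw [e0, e2, f.2, hs']
    have hlt : {x | (m • f).1 x ≠ f'.1 x}.ncard < k := by
      rw [← hf]
      exact Set.ncard_lt_ncard hsub (Set.toFinite _)
    obtain ⟨n, hn, hnf⟩ := ih _ hlt (m • f) rfl
    exact ⟨n * m, mul_mem hn hmN, by rw [mul_smul]; exact hnf⟩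
  · refine ⟨1, one_mem N, ?_⟩
    rw [one_smul]
    exact Subtype.ext (funext fun x => by_contra fun hx => hD ⟨x, hx⟩)

/-- **Coinduction**: unique fixed points on `A`-sets. -/
theorem coinduction [Finite G] {S N : Subgroup G} (hSB : S ≤ B)
    (hk : ∀ y : G, y ∉ B → ∀ s ∈ S, ∃ h : y * s * y⁻¹ ∈ B, φ ⟨y * s * y⁻¹, h⟩ = 1)
    (hN : ∀ y : G, ∀ s ∈ S, y * s * y⁻¹ ∈ N) {g : G} (hg : CC N g) {z : B}
    (hz : ∀ b : B, (b : G) ∈ zpowers g → b ∈ zpowers z) (hzg : (z : G) ∈ zpowers g)
    [Finite Ω] [Nonempty Ω] (ht : ∀ a b : Ω, ∃ s, ∃ hs : s ∈ S, φ ⟨s, hSB hs⟩ • a = b) :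
    ∃! c : Ω, φ z • c = c := by
  classical
  let _ := coIndAction φ Ω
  have : Finite (CoInd φ Ω) := coInd_finite
  have : Nonempty (CoInd φ Ω) := coInd_nonempty
  obtain ⟨f0, hf0, huniq⟩ := existsUnique_fix hg (Ω := CoInd φ Ω) (coInd_trans hSB hk hN ht)
  have hpow : ∀ (k : ℤ) (x : G), f0.1 (x * g ^ k) = f0.1 x := by
    intro k x
    have h1 : g ^ k • f0 = f0 := by
      have h2 : g ∈ stabilizer G f0 := hf0
      have h3 := zpow_mem h2 k
      exact h3
    conv_rhs => rw [← h1]
    rfl
  refine ⟨f0.1 1, ?_, ?_⟩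
  · obtain ⟨k, hk'⟩ := mem_zpowers_iff.1 hzg
    rw [← f0.2 z 1, mul_one, ← hk']
    have := hpow k 1
    rwa [one_mul] at this
  · intro ω hω
    -- the modified function
    have hfix : ∀ b : B, (b : G) ∈ zpowers g → φ b • ω = ω := by
      intro b hb
      obtain ⟨k, hk'⟩ := mem_zpowers_iff.1 (hz b hb)
      have h2 : φ z ∈ stabilizer A ω := hω
      have h3 := zpow_mem h2 k
      rw [← map_zpow, hk'] at h3
      exact h3
    -- decomposition
    let P : G → Prop := fun x => ∃ (b : B) (i : ℤ), x = b * g ^ i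
    have hP : ∀ (b : B) (x : G), P (b * x) ↔ P x := by
      intro b x
      constructor
      · rintro ⟨b', i, h⟩
        exact ⟨b⁻¹ * b', i, by
          rw [Subgroup.coe_mul, mul_assoc, ← h]; simp⟩
      · rintro ⟨b', i, h⟩
        exact ⟨b * b', i, by rw [h, Subgroup.coe_mul, mul_assoc]⟩
    have hP' : ∀ x : G, P (x * g) ↔ P x := by
      intro x
      constructor
      · rintro ⟨b', i, h⟩
        refine ⟨b', i - 1, ?_⟩
        rw [zpow_sub_one, ← mul_assoc, ← h]; group
      · rintro ⟨b', i, h⟩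
        refine ⟨b', i + 1, ?_⟩
        rw [zpow_add_one, ← mul_assoc, ← h]
    have hwd : ∀ (b b' : B) (i j : ℤ), (b : G) * g ^ i = b' * g ^ j → φ b • ω = φ b' • ω := by
      intro b b' i j h
      have h1 : ((b'⁻¹ * b : B) : G) ∈ zpowers g := by
        refine mem_zpowers_iff.2 ⟨j - i, ?_⟩
        rw [Subgroup.coe_mul, Subgroup.coe_inv, zpow_sub]
        have : (b : G) = b' * g ^ j * (g ^ i)⁻¹ := by rw [← h]; group
        rw [this]; group
      have h2 := hfix _ h1
      rw [map_mul, mul_smul, map_inv, inv_smul_eq_iff] at h2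
      exact h2
    let f1 : CoInd φ Ω := ⟨fun x => if h : P x then φ h.choose • ω else f0.1 x, by
      intro b x
      by_cases h : P x
      · have h' : P (b * x) := (hP b x).2 h
        simp only [h, h', dif_pos]
        rw [← mul_smul, ← map_mul]
        obtain ⟨i, hi⟩ := h.choose_spec
        obtain ⟨j, hj⟩ := h'.choose_spec
        apply hwd _ _ j i
        rw [← hj, Subgroup.coe_mul, mul_assoc, ← hi]
      · have h' : ¬ P (b * x) := fun h' => h ((hP b x).1 h')
        simp only [h, h', dif_neg, not_false_eq_true]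
        exact f0.2 b x⟩
    have hf1 : ∀ x, f1.1 x = if h : P x then φ h.choose • ω else f0.1 x := fun x => rfl
    have hf1g : g • f1 = f1 := by
      apply Subtype.ext
      funext x
      change f1.1 (x * g) = f1.1 x
      rw [hf1, hf1]
      by_cases h : P x
      · have h' : P (x * g) := (hP' x).2 h
        simp only [h, h', dif_pos]
        obtain ⟨i, hi⟩ := h.choose_spec
        obtain ⟨j, hj⟩ := h'.choose_spec
        apply hwd _ _ j (i + 1)
        rw [← hj, zpow_add_one, ← mul_assoc, ← hi]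
      · have h' : ¬ P (x * g) := fun h' => h ((hP' x).1 h')
        simp only [h, h', dif_neg, not_false_eq_true]
        have := hpow 1 x
        rwa [zpow_one] at this
    have h1 : f1 = f0 := huniq f1 hf1g
    have h2 : P 1 := ⟨1, 0, by simp⟩
    have h3 : f1.1 1 = ω := by
      rw [hf1]
      simp only [h2, dif_pos]
      obtain ⟨i, hi⟩ := h2.choose_spec
      have := hwd h2.choose 1 i 0 (by rw [← hi]; simp)
      rw [this, map_one, one_smul]
    rw [← h3, h1]

end Coind

universe u

/-- The automorphism `τ` of `K` has exactly one fixed point in every `Aut K`-set on which `K` is transitive. -/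
def OneA (K : Type u) [Group K] (τ : MulAut K) : Prop :=
  ∀ (Ω : Type u) [MulAction (MulAut K) Ω] [Finite Ω] [Nonempty Ω],
    (∀ a b : Ω, ∃ k : K, MulAut.conj k • a = b) → ∃! c : Ω, τ • c = c

end Cfsg.Agent.H679
end

-- part: H679/Lin
section
set_option linter.all false
open scoped Cfsg.Agent.FastGrp

/-!
# Elements on which few nonlinear irreducible characters do not vanish (helper679)

* `sum_hom_apply`, `sum_linear` : `∑ λ(x)` over the linear characters;
* `cc_of_vanish` : all nonlinear characters vanish at `g`: `g G' = g^G`;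
* `one_nonlinear` : only one nonlinear character `χ` does not vanish at `g`.
-/

set_option autoImplicit false

namespace Cfsg.Agent.H679

open Cfsg Subgroup
open scoped ComplexConjugate

universe u

variable {G : Type u} [Group G]

/-- the sum of the values of the homomorphisms to `ℂˣ` -/
theorem sum_hom_apply [Finite G] [Fintype (G →* ℂˣ)] (x : G) [Decidable (x ∈ commutator G)] :
    ∑ f : G →* ℂˣ, (f x : ℂ) = if x ∈ commutator G then ((commutator G).index : ℂ) else 0 := by
  split_ifs with hx
  · have h1 : ∀ f : G →* ℂˣ, (f x : ℂ) = 1 := by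
      intro f
      have h2 : commutator G ≤ f.ker := Abelianization.commutator_subset_ker f
      have h3 : f x = 1 := h2 hx
      rw [h3, Units.val_one]
    simp only [h1, Finset.sum_const, Finset.card_univ, nsmul_eq_mul, mul_one]
    rw [← Characters.Linear.card_hom_eq_index_commutator, Nat.card_eq_fintype_card]
  · have : Finite (Abelianization G) :=
      Finite.of_surjective (QuotientGroup.mk' (commutator G)) (QuotientGroup.mk'_surjective _)
    have hx1 : Abelianization.of x ≠ 1 := by
      intro h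
      exact hx ((QuotientGroup.eq_one_iff x).1 h)
    obtain ⟨φ, hφ⟩ := CommGroup.exists_apply_ne_one_of_hasEnoughRootsOfUnity (Abelianization G) ℂ hx1
    have hne : (((φ.comp Abelianization.of : G →* ℂˣ) x : ℂˣ) : ℂ) ≠ 1 := by
      rw [MonoidHom.comp_apply]
      intro h
      exact hφ (Units.ext h)
    have h1 : ∑ f : G →* ℂˣ, (f x : ℂ) = ((φ.comp Abelianization.of : G →* ℂˣ) x : ℂ) * ∑ f : G →* ℂˣ, (f x : ℂ) := by
      rw [Finset.mul_sum]
      refine (Fintype.sum_equiv (Equiv.mulLeft (φ.comp Abelianization.of : G →* ℂˣ)) _ _ fun f => ?_).symm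
      rw [Equiv.coe_mulLeft, MonoidHom.mul_apply, Units.val_mul]
    have h2 : (((φ.comp Abelianization.of : G →* ℂˣ) x : ℂ) - 1) * ∑ f : G →* ℂˣ, (f x : ℂ) = 0 := by
      rw [sub_mul, ← h1, one_mul, sub_self]
    exact (mul_eq_zero.1 h2).resolve_left (sub_ne_zero.2 hne)

/-- the sum of the values of the linear characters -/
theorem sum_linear [Finite G] [Fintype (IrrCharacter G)] (x : G) [Decidable (x ∈ commutator G)]
    [DecidablePred fun χ : IrrCharacter G => (χ : G → ℂ) 1 = 1] :
    ∑ χ ∈ Finset.univ.filter (fun χ : IrrCharacter G => (χ : G → ℂ) 1 = 1), (χ : G → ℂ) x =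
      if x ∈ commutator G then ((commutator G).index : ℂ) else 0 := by
  classical
  have hfin : Finite (G →* ℂˣ) := Nat.finite_of_card_ne_zero (by
    rw [Characters.Linear.card_hom_eq_index_commutator]; exact index_ne_zero_of_finite)
  cases nonempty_fintype (G →* ℂˣ)
  rw [← sum_hom_apply x]
  rw [Finset.sum_subtype (p := fun χ : IrrCharacter G => (χ : G → ℂ) 1 = 1) _ (fun χ => by simp)]
  exact (Fintype.sum_equiv (Characters.Linear.linearEquiv G) _ _ fun f => by
    rw [Characters.Linear.linearEquiv_apply]).symm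

/-- linear characters are trivial on the commutator subgroup -/
theorem linear_apply_eq_one {χ : G → ℂ} (hχ : IsIrrCharacter G χ) (h1 : χ 1 = 1) {x : G} (hx : x ∈ commutator G) :
    χ x = 1 := by
  obtain ⟨f, rfl⟩ := Characters.Linear.exists_hom_of_isIrrCharacter hχ h1
  have h2 : commutator G ≤ f.ker := Abelianization.commutator_subset_ker f
  have h3 : f x = 1 := h2 hx
  show (f x : ℂ) = 1
  rw [h3, Units.val_one]

theorem linear_mul_conj [Finite G] {χ : G → ℂ} (hχ : IsIrrCharacter G χ) (h1 : χ 1 = 1) (x : G) :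
    χ x * conj (χ x) = 1 := by
  obtain ⟨f, rfl⟩ := Characters.Linear.exists_hom_of_isIrrCharacter hχ h1
  show (f x : ℂ) * conj (f x : ℂ) = 1
  rw [Complex.mul_conj, Complex.normSq_eq_norm_sq, Characters.Linear.norm_hom_apply]
  norm_num

theorem conj_mul_mem_commutator (y x : G) : x⁻¹ * (y * x * y⁻¹) ∈ commutator G := by
  have h := Subgroup.commutator_mem_commutator (H₁ := (⊤ : Subgroup G)) (H₂ := ⊤) (mem_top x⁻¹) (mem_top y)
  rw [commutatorElement_def, inv_inv] at h
  rw [_root_.commutator_def]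
  convert h using 1
  group

/-- **If all nonlinear irreducible characters vanish at `g`, then `g^G = g G'`.** -/
theorem cc_of_vanish [Finite G] (g : G) (hg : ∀ χ : IrrCharacter G, (χ : G → ℂ) 1 ≠ 1 → (χ : G → ℂ) g = 0) :
    CC (commutator G) g := by
  classical
  cases nonempty_fintype G
  have : Finite (IrrCharacter G) := Characters.Core.finite_irr
  cases nonempty_fintype (IrrCharacter G)
  have h1 := S0145.sum_irr_mul_conj g g
  rw [if_pos (IsConj.refl g)] at h1
  have h2 : ∑ χ : IrrCharacter G, (χ : G → ℂ) g * conj ((χ : G → ℂ) g) =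
      ∑ χ ∈ Finset.univ.filter (fun χ : IrrCharacter G => (χ : G → ℂ) 1 = 1), (χ : G → ℂ) 1 := by
    rw [Finset.sum_filter]
    refine Finset.sum_congr rfl fun χ _ => ?_
    split_ifs with h
    · rw [linear_mul_conj χ.2 h, h]
    · rw [hg χ h, zero_mul]
  rw [h2, sum_linear, if_pos (one_mem _)] at h1
  have h3 : (commutator G).index = Nat.card (centralizer ({g} : Set G)) := by exact_mod_cast h1
  have h4 := S0145.card_centralizer_mul_card_class g
  rw [← h3] at h4
  have h5 := (commutator G).card_mul_index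
  have hpos : 0 < (commutator G).index := Nat.pos_of_ne_zero index_ne_zero_of_finite
  have h6 : (Finset.univ.filter (fun x : G => IsConj x g)).card = Nat.card (commutator G) := by
    apply Nat.eq_of_mul_eq_mul_left hpos
    rw [h4, ← h5, mul_comm]
  -- the class is contained in the coset
  have h7 : Finset.univ.filter (fun x : G => IsConj x g) ⊆ Finset.univ.filter (fun x : G => g⁻¹ * x ∈ commutator G) := by
    intro x hx
    rw [Finset.mem_filter] at hx ⊢
    refine ⟨Finset.mem_univ _, ?_⟩
    obtain ⟨y, rfl⟩ := isConj_iff.1 hx.2.symm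
    exact conj_mul_mem_commutator y g
  have h8 : (Finset.univ.filter (fun x : G => g⁻¹ * x ∈ commutator G)).card = Nat.card (commutator G) := by
    rw [← Fintype.card_subtype, ← Nat.card_eq_fintype_card]
    exact Nat.card_congr ((Equiv.mulLeft g⁻¹).subtypeEquiv fun x => Iff.rfl)
  have h9 := Finset.eq_of_subset_of_card_le h7 (by rw [h6, h8])
  intro n hn
  have h10 : g * n ∈ Finset.univ.filter (fun x : G => g⁻¹ * x ∈ commutator G) := by
    rw [Finset.mem_filter]
    exact ⟨Finset.mem_univ _, by rwa [inv_mul_cancel_left]⟩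
  rw [← h9, Finset.mem_filter] at h10
  obtain ⟨y, hy⟩ := isConj_iff.1 h10.2.symm
  exact ⟨y, hy⟩

end Cfsg.Agent.H679
end

-- part: H679/OneNonlin
section
set_option linter.all false
open scoped Cfsg.Agent.FastGrp

/-!
# Elements on which only one nonlinear irreducible character does not vanish (helper679)

`One g χ` : `g` is not central, `χ` is not linear, `χ g ≠ 0` and all other nonlinear irreducible characters vanish at `g`.
-/

set_option autoImplicit false

namespace Cfsg.Agent.H679

open Cfsg Subgroup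
open scoped ComplexConjugate

universe u

variable {G : Type u} [Group G]

theorem solvable_of_quot (N : Subgroup G) [N.Normal] (h1 : Group.IsSolvable N) (h2 : Group.IsSolvable (G ⧸ N)) :
    Group.IsSolvable G := by
  refine Group.isSolvable_of_ker_le_range N.subtype (QuotientGroup.mk' N) ?_
  rw [QuotientGroup.ker_mk', range_subtype]

/-- `g` is not central, `χ` is not linear, `χ g ≠ 0`, the other nonlinear characters vanish at `g` -/
structure One (g : G) (χ : IrrCharacter G) : Prop where
  ncen : g ∉ center G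
  nlin : (χ : G → ℂ) 1 ≠ 1
  ne : (χ : G → ℂ) g ≠ 0
  other : ∀ ψ : IrrCharacter G, (ψ : G → ℂ) 1 ≠ 1 → ψ ≠ χ → (ψ : G → ℂ) g = 0

namespace One

theorem conj_one (ψ : IrrCharacter G) : conj ((ψ : G → ℂ) 1) = (ψ : G → ℂ) 1 := by
  obtain ⟨n, -, hn⟩ := Characters.Core.isIrr_apply_one ψ.2
  rw [hn, Complex.conj_natCast]

variable [Finite G] {g : G} {χ : IrrCharacter G} (h : One g χ)

include h

theorem key [Fintype (IrrCharacter G)] [DecidablePred fun χ : IrrCharacter G => (χ : G → ℂ) 1 = 1] {x : G}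
    (hx : ¬ IsConj g x) :
    ∑ ψ ∈ Finset.univ.filter (fun ψ : IrrCharacter G => (ψ : G → ℂ) 1 = 1), (ψ : G → ℂ) g * conj ((ψ : G → ℂ) x) +
      (χ : G → ℂ) g * conj ((χ : G → ℂ) x) = 0 := by
  classical
  cases nonempty_fintype G
  have h1 := S0145.sum_irr_mul_conj g x
  rw [if_neg hx, ← Finset.sum_filter_add_sum_filter_not Finset.univ
    (fun ψ : IrrCharacter G => (ψ : G → ℂ) 1 = 1)] at h1
  rw [← h1]
  congr 1
  rw [Finset.sum_eq_single χ]
  · intro ψ hψ hne
    rw [Finset.mem_filter] at hψ
    rw [h.other ψ hψ.2 hne, zero_mul]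
  · intro hχ
    exact (hχ (Finset.mem_filter.2 ⟨Finset.mem_univ _, h.nlin⟩)).elim

omit [Finite G] in
theorem not_isConj_one : ¬ IsConj g 1 := by
  intro h1
  apply h.ncen
  rw [isConj_one_right.1 h1.symm]
  exact one_mem _

theorem mem_and : g ∈ commutator G ∧ (χ : G → ℂ) g * (χ : G → ℂ) 1 = -((commutator G).index : ℂ) := by
  classical
  have : Finite (IrrCharacter G) := Characters.Core.finite_irr
  cases nonempty_fintype (IrrCharacter G)
  have h1 := h.key h.not_isConj_one
  have h2 : ∑ ψ ∈ Finset.univ.filter (fun ψ : IrrCharacter G => (ψ : G → ℂ) 1 = 1), (ψ : G → ℂ) g * conj ((ψ : G → ℂ) 1) =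
      ∑ ψ ∈ Finset.univ.filter (fun ψ : IrrCharacter G => (ψ : G → ℂ) 1 = 1), (ψ : G → ℂ) g := by
    refine Finset.sum_congr rfl fun ψ hψ => ?_
    rw [Finset.mem_filter] at hψ
    rw [conj_one, hψ.2, mul_one]
  rw [h2, sum_linear, conj_one] at h1
  split_ifs at h1 with hc
  · exact ⟨hc, by rw [eq_neg_iff_add_eq_zero, add_comm]; exact h1⟩
  · rw [zero_add] at h1
    exact absurd h1 (mul_ne_zero h.ne (Characters.Core.isIrr_apply_one_ne_zero χ.2))

theorem mem : g ∈ commutator G := h.mem_and.1

theorem apply_eq : (χ : G → ℂ) g = -(((commutator G).index : ℂ) / (χ : G → ℂ) 1) := by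
  have h0 := Characters.Core.isIrr_apply_one_ne_zero χ.2
  rw [← neg_div, eq_div_iff h0]
  exact h.mem_and.2

theorem values {x : G} (hx : ¬ IsConj g x) :
    (x ∈ commutator G → (χ : G → ℂ) x = (χ : G → ℂ) 1) ∧ (x ∉ commutator G → (χ : G → ℂ) x = 0) := by
  classical
  have : Finite (IrrCharacter G) := Characters.Core.finite_irr
  cases nonempty_fintype (IrrCharacter G)
  have h1 := h.key hx
  have h2 : ∑ ψ ∈ Finset.univ.filter (fun ψ : IrrCharacter G => (ψ : G → ℂ) 1 = 1), (ψ : G → ℂ) g * conj ((ψ : G → ℂ) x) =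
      conj (∑ ψ ∈ Finset.univ.filter (fun ψ : IrrCharacter G => (ψ : G → ℂ) 1 = 1), (ψ : G → ℂ) x) := by
    rw [map_sum]
    refine Finset.sum_congr rfl fun ψ hψ => ?_
    rw [Finset.mem_filter] at hψ
    rw [linear_apply_eq_one ψ.2 hψ.2 h.mem, one_mul]
  rw [h2, sum_linear] at h1
  constructor
  · intro hc
    rw [if_pos hc, Complex.conj_natCast] at h1
    have h3 := h.mem_and.2
    have h4 : (χ : G → ℂ) g * conj ((χ : G → ℂ) x) = (χ : G → ℂ) g * (χ : G → ℂ) 1 := by
      rw [h3]
      exact eq_neg_of_add_eq_zero_right h1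
    have h5 := mul_left_cancel₀ h.ne h4
    rw [← conj_one χ] at h5
    exact (starRingEnd ℂ).injective h5
  · intro hc
    rw [if_neg hc, map_zero, zero_add] at h1
    have h5 := (mul_eq_zero.1 h1).resolve_left h.ne
    exact (map_eq_zero _).1 h5

theorem zero_off {x : G} (hx : x ∉ commutator G) : (χ : G → ℂ) x = 0 := by
  refine (h.values fun hc => hx ?_).2 hx
  obtain ⟨y, rfl⟩ := isConj_iff.1 hc
  exact (inferInstance : (commutator G).Normal).conj_mem g h.mem y

theorem apply_ne_one : (χ : G → ℂ) g ≠ (χ : G → ℂ) 1 := by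
  intro h1
  obtain ⟨n, hn, hn'⟩ := Characters.Core.isIrr_apply_one χ.2
  have h2 := h.mem_and.2
  rw [h1, hn'] at h2
  have h3 : (((n * n + (commutator G).index : ℕ)) : ℂ) = 0 := by
    push_cast
    rw [h2]
    ring
  have h4 : n * n + (commutator G).index = 0 := by exact_mod_cast h3
  have : 0 < n * n := Nat.mul_pos hn hn
  omega

theorem conj_ne_one {x : G} (hx : IsConj g x) : (χ : G → ℂ) x ≠ (χ : G → ℂ) 1 := by
  obtain ⟨y, rfl⟩ := isConj_iff.1 hx
  rw [Characters.Core.isIrr_isClassFunction χ.2 g y]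
  exact h.apply_ne_one

theorem commutator_eq : (commutator G : Set G) = {x : G | (χ : G → ℂ) x = (χ : G → ℂ) 1} ∪ {x : G | IsConj g x} := by
  ext x
  simp only [Set.mem_union, Set.mem_ofPred_eq, SetLike.mem_coe]
  constructor
  · intro hx
    by_cases hc : IsConj g x
    · exact Or.inr hc
    · exact Or.inl ((h.values hc).1 hx)
  · rintro (hx | hx)
    · by_contra hc
      rw [h.zero_off hc] at hx
      exact Characters.Core.isIrr_apply_one_ne_zero χ.2 hx.symm
    · obtain ⟨y, rfl⟩ := isConj_iff.1 hx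
      exact (inferInstance : (commutator G).Normal).conj_mem g h.mem y

/-- uniqueness of the nonlinear character of `G / ker χ` -/
theorem unique (ψ : IrrCharacter G) (hψ : (ψ : G → ℂ) 1 ≠ 1)
    (hk : ∀ x : G, (χ : G → ℂ) x = (χ : G → ℂ) 1 → (ψ : G → ℂ) x = (ψ : G → ℂ) 1) : ψ = χ := by
  classical
  by_contra hne
  have hg : (ψ : G → ℂ) g = 0 := h.other ψ hψ hne
  have : Finite (IrrCharacter G) := Characters.Core.finite_irr
  cases nonempty_fintype (IrrCharacter G)
  cases nonempty_fintype G
  -- `∑ ψ(x) conj (∑ λ(x)) = 0`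
  have h1 : ∑ x : G, (ψ : G → ℂ) x * conj (∑ l ∈ Finset.univ.filter (fun l : IrrCharacter G => (l : G → ℂ) 1 = 1),
      (l : G → ℂ) x) = 0 := by
    simp only [map_sum, Finset.mul_sum]
    rw [Finset.sum_comm]
    refine Finset.sum_eq_zero fun l hl => ?_
    rw [Finset.mem_filter] at hl
    have h2 : (ψ : G → ℂ) ≠ (l : G → ℂ) := fun h3 => hψ (by rw [h3]; exact hl.2)
    have h4 := Characters.Core.classInner_irr_ne ψ.2 l.2 h2
    rw [classInner] at h4
    exact (mul_eq_zero.1 h4).resolve_left (inv_ne_zero (by exact_mod_cast Nat.card_pos.ne'))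
  have h2 : ∀ x : G, (ψ : G → ℂ) x * conj (∑ l ∈ Finset.univ.filter (fun l : IrrCharacter G => (l : G → ℂ) 1 = 1),
      (l : G → ℂ) x) = if (χ : G → ℂ) x = (χ : G → ℂ) 1 then (ψ : G → ℂ) 1 * ((commutator G).index : ℂ) else 0 := by
    intro x
    rw [sum_linear]
    have h3 : x ∈ commutator G ↔ (χ : G → ℂ) x = (χ : G → ℂ) 1 ∨ IsConj g x := by
      have h4 := h.commutator_eq
      have h5 : x ∈ (commutator G : Set G) ↔ x ∈ {x : G | (χ : G → ℂ) x = (χ : G → ℂ) 1} ∪ {x : G | IsConj g x} := by
        rw [h4]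
      exact h5
    by_cases hc : IsConj g x
    · have h6 : (ψ : G → ℂ) x = 0 := by
        obtain ⟨y, rfl⟩ := isConj_iff.1 hc
        rw [Characters.Core.isIrr_isClassFunction ψ.2 g y, hg]
      rw [h6, zero_mul, if_neg (h.conj_ne_one hc)]
    · by_cases hx : (χ : G → ℂ) x = (χ : G → ℂ) 1
      · rw [if_pos (h3.2 (Or.inl hx)), if_pos hx, hk x hx, Complex.conj_natCast]
      · rw [if_neg (fun h7 => (h3.1 h7).elim hx hc), if_neg hx, map_zero, mul_zero]
  simp only [h2] at h1
  rw [← Finset.sum_filter, Finset.sum_const, nsmul_eq_mul] at h1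
  rcases mul_eq_zero.1 h1 with h3 | h3
  · have h4 : (Finset.univ.filter (fun x : G => (χ : G → ℂ) x = (χ : G → ℂ) 1)).card = 0 := by exact_mod_cast h3
    rw [Finset.card_eq_zero] at h4
    have h5 : (1 : G) ∈ Finset.univ.filter (fun x : G => (χ : G → ℂ) x = (χ : G → ℂ) 1) := by
      rw [Finset.mem_filter]
      exact ⟨Finset.mem_univ _, rfl⟩
    rw [h4] at h5
    exact absurd h5 (Finset.notMem_empty _)
  · rcases mul_eq_zero.1 h3 with h4 | h4
    · exact Characters.Core.isIrr_apply_one_ne_zero ψ.2 h4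
    · have h5 : (commutator G).index = 0 := by exact_mod_cast h4
      exact index_ne_zero_of_finite h5

omit h in
/-- the kernel of `χ` as a subgroup -/
theorem exists_ker (χ : IrrCharacter G) : ∃ K : Subgroup G, K.Normal ∧ ∀ x, x ∈ K ↔ (χ : G → ℂ) x = (χ : G → ℂ) 1 := by
  obtain ⟨n, ρ, -, hρ⟩ := χ.2
  refine ⟨ρ.ker, inferInstance, fun x => ?_⟩
  rw [← hρ, Representation.char_one, Characters.Values.character_eq_finrank_iff, MonoidHom.mem_ker]
  exact Iff.rfl

/-- solvability, from the solvability of the normal subgroups `N` with `g N ⊆ g^G` -/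
theorem solvable (hA : ∀ (K : Subgroup G) [K.Normal], CC K g → Group.IsSolvable K) : Group.IsSolvable G := by
  obtain ⟨K, hKn, hK⟩ := exists_ker χ
  have hgK : g ∉ K := fun hc => h.apply_ne_one ((hK g).1 hc)
  have hmem : ∀ x : G, x ∈ commutator G ↔ x ∈ K ∨ IsConj g x := by
    intro x
    have h4 := h.commutator_eq
    have h5 : x ∈ (commutator G : Set G) ↔ x ∈ {x : G | (χ : G → ℂ) x = (χ : G → ℂ) 1} ∪ {x : G | IsConj g x} := by
      rw [h4]
    rw [hK x]
    exact h5
  have hKle : K ≤ commutator G := fun x hx => (hmem x).2 (Or.inl hx)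
  have hcc : CC K g := by
    intro n hn
    have h1 : g * n ∈ commutator G := mul_mem h.mem (hKle hn)
    rcases (hmem _).1 h1 with h2 | h2
    · exact absurd ((mul_mem_cancel_right hn).1 h2) hgK
    · obtain ⟨y, hy⟩ := isConj_iff.1 h2
      exact ⟨y, hy⟩
  have hKs := hA K hcc
  -- `G' / K` is a `p`-group
  have hq : Group.IsSolvable (G ⧸ K) := by
    let π := QuotientGroup.mk' K
    have hgq : (π g) ≠ 1 := fun hc => hgK ((QuotientGroup.eq_one_iff g).1 hc)
    obtain ⟨p, hp, hpd⟩ := Nat.exists_prime_and_dvd (n := orderOf (π g)) (fun hc => hgq (orderOf_eq_one_iff.1 hc))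
    have : Fact p.Prime := ⟨hp⟩
    have hcm : commutator (G ⧸ K) = (commutator G).map π := by
      rw [_root_.commutator_def, _root_.commutator_def, map_commutator]
      congr 1 <;> rw [← MonoidHom.range_eq_map, MonoidHom.range_eq_top.2 (QuotientGroup.mk'_surjective K)]
    -- all nonidentity elements of the commutator subgroup of the quotient have order `p`
    have hall : ∀ y ∈ commutator (G ⧸ K), y ≠ 1 → orderOf y = orderOf (π g) := by
      intro y hy hy1
      rw [hcm] at hy
      obtain ⟨x, hx, rfl⟩ := hy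
      rcases (hmem x).1 hx with h2 | h2
      · exact absurd ((QuotientGroup.eq_one_iff x).2 h2) hy1
      · obtain ⟨z, rfl⟩ := isConj_iff.1 h2
        rw [map_mul, map_mul, map_inv]
        have h3 : π z * π g * (π z)⁻¹ = MulAut.conj (π z) (π g) := rfl
        rw [h3]
        exact MulEquiv.orderOf_eq _ _
    have hgc : π g ∈ commutator (G ⧸ K) := by
      rw [hcm]
      exact ⟨g, h.mem, rfl⟩
    have hop : orderOf (π g) = p := by
      have h3 : orderOf (π g ^ (orderOf (π g) / p)) = p := by
        rw [orderOf_pow_of_dvd, Nat.div_div_self hpd (orderOf_pos _).ne']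
        · exact (Nat.div_pos (Nat.le_of_dvd (orderOf_pos _) hpd) hp.pos).ne'
        · exact Nat.div_dvd_of_dvd hpd
      rw [← h3]
      refine (hall _ (pow_mem hgc _) fun hc => ?_).symm
      rw [hc, orderOf_one] at h3
      exact hp.one_lt.ne h3
    have hpg : IsPGroup p (commutator (G ⧸ K)) := by
      intro y
      refine ⟨1, ?_⟩
      rw [pow_one]
      apply Subtype.ext
      show (y : G ⧸ K) ^ p = 1
      by_cases hy : (y : G ⧸ K) = 1
      · rw [hy, one_pow]
      · rw [← hop, ← hall y y.2 hy, pow_orderOf_eq_one]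
    have hs1 : Group.IsSolvable (commutator (G ⧸ K)) := by
      have := hpg.isNilpotent
      infer_instance
    have hs2 : Group.IsSolvable ((G ⧸ K) ⧸ commutator (G ⧸ K)) := by
      have : Group.IsSolvable (Abelianization (G ⧸ K)) := inferInstance
      exact this
    exact solvable_of_quot _ hs1 hs2
  exact solvable_of_quot K hKs hq

end One

end Cfsg.Agent.H679

private theorem dce_377bcb4a7d3e : _root_.True := by
  try have : _root_.True := by simp only [_root_.Cfsg.classInner.eq_1]
  exact _root_.True.intro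
end
end
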