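import Cfsg.Agent.H206.ZPslBase
import Cfsg.Agent.H199.PslAut
import Cfsg.Agent.S0157
import Cfsg.Agent.H504.TwoExt
import Cfsg.Agent.S0249
import Cfsg.Agent.Prune
set_option linter.all false
prune_inst 0x7f00000000000000000000000000000000000000000000000000000000000000000000000000000000000000000000000000000000000000000000000000000000000000000000000000000000000000003fffffffffffffffffffffffffffbeffbdffffffff
open scoped Cfsg.Agent.FastGrp

-- part: H679/TwoPslPoly
section
/-!
# Companion matrices with one rational eigenvalue (helper679)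

* `exists_noroot` : a monic polynomial of degree `b ≥ 2` with constant term `(-1) ^ b` and no root.
* `exists_comp` : the (transposed) companion matrix; its eigenvectors are multiples of `(c ^ i)`.
* `exists_one_fix` : an element of `SL_n(F)` with exactly one fixed point on the projective space,
  the multiplicity of the root `1` of its characteristic polynomial being `n - b`.
-/

set_option autoImplicit false

namespace Cfsg.Agent.H679.TwoPsl

open Matrix Polynomial
open Cfsg.Agent.H206.ZPsl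

section poly

variable {F : Type*} [Field F] [Fintype F]

theorem exists_noroot {b : ℕ} (hb : 2 ≤ b) :
    ∃ g : F[X], g.Monic ∧ g.natDegree = b ∧ g.coeff 0 = (-1) ^ b ∧ ∀ x : F, g.eval x ≠ 0 := by
  classical
  -- the values of `(x ^ b + (-1) ^ b) / x ^ (b - 1)` for `x ≠ 0` do not cover `F`
  have h1 : ((Finset.univ.erase (0 : F)).image fun x : F => (x ^ b + (-1) ^ b) / x ^ (b - 1)) ≠ Finset.univ := by
    intro h
    have h2 := congrArg Finset.card h
    have h3 := Finset.card_image_le (s := Finset.univ.erase (0 : F))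
      (f := fun x : F => (x ^ b + (-1) ^ b) / x ^ (b - 1))
    rw [h2, Finset.card_erase_of_mem (Finset.mem_univ _), Finset.card_univ] at h3
    have h4 : 0 < Fintype.card F := Fintype.card_pos
    omega
  obtain ⟨t, ht⟩ : ∃ t : F, t ∉ ((Finset.univ.erase (0 : F)).image fun x : F => (x ^ b + (-1) ^ b) / x ^ (b - 1)) := by
    by_contra hcon
    push Not at hcon
    exact h1 (Finset.eq_univ_iff_forall.2 hcon)
  have hdeg : (- C t * X ^ (b - 1) + C ((-1) ^ b) : F[X]).degree < (b : ℕ) := by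
    refine (degree_add_le _ _).trans_lt (max_lt ?_ ?_)
    · rw [← C_neg]
      refine (degree_C_mul_X_pow_le _ _).trans_lt ?_
      exact_mod_cast (by omega : b - 1 < b)
    · refine degree_C_le.trans_lt ?_
      exact_mod_cast (by omega : 0 < b)
  have hm : (X ^ b + (- C t * X ^ (b - 1) + C ((-1) ^ b)) : F[X]).Monic := monic_X_pow_add hdeg
  refine ⟨X ^ b + (- C t * X ^ (b - 1) + C ((-1) ^ b)), hm, ?_, ?_, ?_⟩
  · rw [natDegree_add_eq_left_of_degree_lt, natDegree_X_pow]
    rwa [degree_X_pow]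
  · rw [coeff_add, coeff_add, coeff_X_pow, coeff_C_zero, if_neg (by omega), zero_add, ← C_neg, coeff_C_mul, coeff_X_pow,
      if_neg (by omega), mul_zero, zero_add]
  · intro x hx
    rw [eval_add, eval_add, eval_mul, eval_neg, eval_C, eval_pow, eval_pow, eval_X, eval_C] at hx
    have hx0 : x ≠ 0 := by
      rintro rfl
      rw [zero_pow (by omega), zero_pow (by omega), mul_zero, zero_add, zero_add] at hx
      exact pow_ne_zero b (neg_ne_zero.2 one_ne_zero) hx
    apply ht
    refine Finset.mem_image.2 ⟨x, Finset.mem_erase.2 ⟨hx0, Finset.mem_univ _⟩, ?_⟩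
    rw [div_eq_iff (pow_ne_zero _ hx0)]
    linear_combination hx

end poly

variable {F : Type*} [Field F]

/-- the transposed companion matrix -/
theorem exists_comp (f : F[X]) (hf : f.Monic) {n : ℕ} (hn : f.natDegree = n) :
    ∃ A : Matrix (Fin n) (Fin n) F, A.charpoly = f ∧
      ∀ (v : Fin n → F) (c : F), A *ᵥ v = c • v → ∀ (h0 : 0 < n) (i : Fin n), v i = c ^ (i : ℕ) * v ⟨0, h0⟩ := by
  subst hn
  have h1 : minpoly F (AdjoinRoot.powerBasis hf.ne_zero).gen = f := AdjoinRoot.minpoly_powerBasis_gen_of_monic hf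
  have h2 := charpoly_leftMulMatrix (AdjoinRoot.powerBasis hf.ne_zero)
  rw [h1] at h2
  refine ⟨(Algebra.leftMulMatrix (AdjoinRoot.powerBasis hf.ne_zero).basis (AdjoinRoot.powerBasis hf.ne_zero).gen)ᵀ, ?_, ?_⟩
  · exact (charpoly_transpose _).trans h2
  · intro v c hv h0 i
    have key : ∀ (k : ℕ) (hk : k < f.natDegree), v ⟨k, hk⟩ = c ^ k * v ⟨0, h0⟩ := by
      intro k
      induction k with
      | zero => intro _; simp
      | succ k ih =>
        intro hk
        have h3 := congrFun hv ⟨k, by omega⟩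
        have hk' : k < f.natDegree := by omega
        have h4 : ((Algebra.leftMulMatrix (AdjoinRoot.powerBasis hf.ne_zero).basis
            (AdjoinRoot.powerBasis hf.ne_zero).gen)ᵀ *ᵥ v) ⟨k, hk'⟩ = v ⟨k + 1, hk⟩ := by
          rw [PowerBasis.leftMulMatrix]
          change ∑ j : Fin f.natDegree, (if k + 1 = f.natDegree then _ else if (j : ℕ) = k + 1 then (1 : F) else 0) * v j = _
          rw [Finset.sum_eq_single (⟨k + 1, hk⟩ : Fin f.natDegree)]
          · rw [if_neg (by omega), if_pos rfl, one_mul]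
          · intro j _ hj
            rw [if_neg (by omega), if_neg (fun h => hj (Fin.ext h)), zero_mul]
          · intro h
            exact absurd (Finset.mem_univ _) h
        have h5 : v ⟨k + 1, hk⟩ = c * v ⟨k, by omega⟩ := h4.symm.trans h3
        rw [h5, ih, pow_succ]
        ring
    exact key i i.2

/-- an eigenvector with eigenvalue `c` exists iff `c` is a root of the characteristic polynomial -/
theorem exists_eigen_iff {n : ℕ} (A : Matrix (Fin n) (Fin n) F) (c : F) :
    (∃ v : Fin n → F, v ≠ 0 ∧ A *ᵥ v = c • v) ↔ A.charpoly.eval c = 0 := by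
  rw [Matrix.eval_charpoly, ← Matrix.exists_mulVec_eq_zero_iff]
  have key : ∀ v : Fin n → F, (scalar (Fin n) c - A) *ᵥ v = 0 ↔ A *ᵥ v = c • v := by
    intro v
    rw [sub_mulVec, scalar_apply, ← smul_one_eq_diagonal, smul_mulVec, one_mulVec, sub_eq_zero, eq_comm]
  exact exists_congr fun v => and_congr_right fun _ => (key v).symm

/-- the polynomial `(X - 1) ^ a * g` -/
theorem exists_one_fix [Fintype F] {n b : ℕ} (hb : b = 0 ∨ 2 ≤ b) (hbn : b < n) :
    ∃ (A : Matrix.SpecialLinearGroup (Fin n) F),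
      (∀ (v : Fin n → F) (c : F), v ≠ 0 → (A : Matrix (Fin n) (Fin n) F) *ᵥ v = c • v → c = 1 ∧
        ∀ i, v i = v ⟨0, by omega⟩) ∧
      (∃ v : Fin n → F, v ≠ 0 ∧ (A : Matrix (Fin n) (Fin n) F) *ᵥ v = v) ∧
      ((A : Matrix (Fin n) (Fin n) F).charpoly.rootMultiplicity 1 = n - b) := by
  classical
  obtain ⟨g, hg1, hg2, hg3, hg4⟩ : ∃ g : F[X], g.Monic ∧ g.natDegree = b ∧ g.coeff 0 = (-1) ^ b ∧
      ∀ x : F, g.eval x ≠ 0 := by
    rcases hb with rfl | hb
    · exact ⟨1, monic_one, natDegree_one, by rw [coeff_one_zero, pow_zero], fun x => by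
        rw [eval_one]; exact one_ne_zero⟩
    · exact exists_noroot hb
  have hm1 : ((X - C 1) ^ (n - b) : F[X]).Monic := (monic_X_sub_C 1).pow _
  have hm : ((X - C 1) ^ (n - b) * g : F[X]).Monic := hm1.mul hg1
  have hd : ((X - C 1) ^ (n - b) * g : F[X]).natDegree = n := by
    rw [hm1.natDegree_mul hg1, (monic_X_sub_C (1 : F)).natDegree_pow, natDegree_X_sub_C, hg2]
    omega
  obtain ⟨A, hA1, hA2⟩ := exists_comp _ hm hd
  have hdet : A.det = 1 := by
    rw [Matrix.det_eq_sign_charpoly_coeff, hA1, Fintype.card_fin, mul_coeff_zero, hg3, coeff_zero_eq_eval_zero,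
      eval_pow, eval_sub, eval_X, eval_C, zero_sub, ← pow_add, ← pow_add]
    exact Even.neg_one_pow ⟨n, by omega⟩
  have hroot : ∀ c : F, A.charpoly.eval c = 0 ↔ c = 1 := by
    intro c
    rw [hA1, eval_mul, mul_eq_zero, eval_pow, eval_sub, eval_X, eval_C]
    constructor
    · rintro (h | h)
      · exact sub_eq_zero.1 (pow_eq_zero_iff (by omega) |>.1 h)
      · exact absurd h (hg4 c)
    · rintro rfl
      left
      rw [sub_self, zero_pow (by omega)]
  refine ⟨⟨A, hdet⟩, ?_, ?_, ?_⟩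
  · intro v c hv hc
    have h1 : c = 1 := (hroot c).1 ((exists_eigen_iff A c).1 ⟨v, hv, hc⟩)
    subst h1
    refine ⟨rfl, fun i => ?_⟩
    have := hA2 v 1 hc (by omega) i
    rwa [one_pow, one_mul] at this
  · obtain ⟨v, hv, h⟩ := (exists_eigen_iff A 1).2 ((hroot 1).2 rfl)
    exact ⟨v, hv, by rw [one_smul] at h; exact h⟩
  · change A.charpoly.rootMultiplicity 1 = n - b
    rw [hA1, rootMultiplicity_mul hm.ne_zero, rootMultiplicity_X_sub_C_pow, rootMultiplicity_eq_zero (hg4 1), add_zero]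

/-! ### conjugacy of such elements -/

theorem eval_smul_charpoly {n : ℕ} (b : Matrix (Fin n) (Fin n) F) (z : F) :
    (z • b).charpoly.eval z = z ^ n * b.charpoly.eval 1 := by
  rw [Matrix.eval_charpoly, Matrix.eval_charpoly]
  have h : scalar (Fin n) z - z • b = z • (scalar (Fin n) 1 - b) := by
    rw [smul_sub, scalar_apply, scalar_apply, ← smul_one_eq_diagonal, ← smul_one_eq_diagonal, smul_smul, mul_one]
  rw [h, det_smul, Fintype.card_fin]

/-- two matrices, the first having only the eigenvalue `1`, similar up to a scalar -/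
theorem Sim.charpoly_eq' {n : ℕ} (hn : n ≠ 0) {a b : Matrix (Fin n) (Fin n) F} (h : Sim a b)
    (ha : ∀ c : F, a.charpoly.eval c = 0 → c = 1) (hb : b.charpoly.eval 1 = 0) : Sim1 a b := by
  refine h.sim1_of_eval (fun z _ _ h1 => ?_) hn
  apply ha
  rw [h1, eval_smul_charpoly, hb, mul_zero]

end Cfsg.Agent.H679.TwoPsl
end

-- part: H679/TwoPsl
section
/-!
# `PSL_n(F)`, `n ≥ 4`: two irreducible characters with three zeros (helper679)

`row1_psl`, `row2_psl` for S4897.
-/

set_option autoImplicit false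

namespace Cfsg.Agent.H679.TwoPsl

open Matrix Polynomial Cfsg Cfsg.Agent.H206.ZPsl Cfsg.Agent.H504.TwoZ Cfsg.Agent.H504.Zeros
open Cfsg.Agent.ClassicalGeometry.AutPSL.Root Cfsg.Agent.ClassicalGeometry.AutPSL.Auto
open Cfsg.Agent.H199.PslAut

section aut

variable {F : Type*} [Field F] {n : ℕ}

theorem eval_charpoly_U (hn : n ≠ 0) (S : Finset ℕ) : (U F n S).charpoly.eval 1 = 0 := by
  rw [charpoly_U, eval_pow, eval_sub, eval_X, eval_C, sub_self, zero_pow hn]

/-- the similarity classes of the unipotent elements -/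
theorem rank_of_smul_conj (hn : n ≠ 0) {S' : Finset ℕ} (hS' : ∀ i ∈ S', i + 1 < n) {a : Matrix (Fin n) (Fin n) F}
    (hdet : a.det = 1) (ha : a.charpoly.eval 1 = 0) {z : F} (g : GL (Fin n) F)
    (h : U F n S' = z • ((g : Matrix (Fin n) (Fin n) F) * a * ((g⁻¹ : GL (Fin n) F) : Matrix (Fin n) (Fin n) F))) :
    (a - 1).rank = S'.card := by
  have hz : z ^ n = 1 := by
    have h1 := congrArg Matrix.det h
    rw [det_U, det_smul, Fintype.card_fin, det_mul, det_mul, hdet, mul_one, ← det_mul, ← Units.val_mul, mul_inv_cancel,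
      Units.val_one, det_one, mul_one] at h1
    exact h1.symm
  have hsim : Sim (U F n S') a := ⟨z, g, hz, h⟩
  have h1 : Sim1 (U F n S') a := Sim.charpoly_eq' hn hsim (fun c hc => by
    rw [charpoly_U, eval_pow, eval_sub, eval_X, eval_C] at hc
    exact sub_eq_zero.1 (pow_eq_zero_iff hn |>.1 hc)) ha
  have h2 := h1.sub_one.rank_eq
  rw [U_sub_one, rank_P hS'] at h2
  exact h2.symm

theorem fld_uE (σ : F ≃+* F) (S : Finset ℕ) : fld σ (uE F n S) = uE F n S := by
  apply Subtype.ext
  ext i j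
  rw [coe_fld_apply]
  change σ (U F n S i j) = U F n S i j
  rw [U, Matrix.add_apply, map_add, P, one_apply]
  congr 1
  · split_ifs
    · exact map_one σ
    · exact map_zero σ
  · split_ifs
    · exact map_one σ
    · exact map_zero σ

theorem fld_itr_uE (σ : F ≃+* F) (S : Finset ℕ) : fld σ (itr (uE F n S)) = itr (uE F n S) := by
  apply Subtype.ext
  rw [coe_itr]
  have h : fld σ ((uE F n S)⁻¹) = (uE F n S)⁻¹ := by rw [map_inv, fld_uE]
  ext i j
  rw [coe_fld_apply, coe_itr, transpose_apply]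
  have h2 : (fld σ ((uE F n S)⁻¹) : Matrix.SpecialLinearGroup (Fin n) F).1 j i =
      ((uE F n S)⁻¹ : Matrix.SpecialLinearGroup (Fin n) F).1 j i := by rw [h]
  rw [coe_fld_apply] at h2
  exact h2

/-- the rank of `u - 1` is invariant under automorphisms -/
theorem aut_U [Fintype F] (hn : 2 ≤ n) {S S' : Finset ℕ} (hS : ∀ i ∈ S, i + 1 < n) (hS' : ∀ i ∈ S', i + 1 < n)
    (φ : MulAut (Matrix.ProjectiveSpecialLinearGroup (Fin n) F)) (h : φ (pr (uE F n S)) = pr (uE F n S')) :
    S.card = S'.card := by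
  have hn0 : n ≠ 0 := by omega
  rcases exists_form hn φ with ⟨g, σ, rfl⟩ | ⟨-, g, σ, rfl⟩
  · rw [MulAut.mul_apply, phi_pr, Psi_pr, fld_uE] at h
    obtain ⟨z, hz⟩ := exists_smul_of_pr_eq h
    rw [coe_cj] at hz
    have h1 := rank_of_smul_conj hn0 hS' (det_U S) (eval_charpoly_U hn0 S) g hz
    rwa [U_sub_one, rank_P hS] at h1
  · rw [MulAut.mul_apply, MulAut.mul_apply, iot_pr, phi_pr, Psi_pr, fld_itr_uE] at h
    obtain ⟨z, hz⟩ := exists_smul_of_pr_eq h
    rw [coe_cj] at hz
    have hinv : ((uE F n S)⁻¹ : Matrix.SpecialLinearGroup (Fin n) F).1 * U F n S = 1 :=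
      congrArg (fun x : Matrix.SpecialLinearGroup (Fin n) F => (x : Matrix (Fin n) (Fin n) F)) (inv_mul_cancel (uE F n S))
    have hdet1 : ((uE F n S)⁻¹ : Matrix.SpecialLinearGroup (Fin n) F).1.det = 1 := ((uE F n S)⁻¹).2
    have h0 : (itr (uE F n S) : Matrix.SpecialLinearGroup (Fin n) F).1 =
        (((uE F n S)⁻¹ : Matrix.SpecialLinearGroup (Fin n) F).1)ᵀ := coe_itr _
    have h2 : ((uE F n S)⁻¹ : Matrix.SpecialLinearGroup (Fin n) F).1 - 1 =
        ((uE F n S)⁻¹ : Matrix.SpecialLinearGroup (Fin n) F).1 * -(P F n 1 S) := by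
      rw [← U_sub_one, mul_neg, mul_sub, hinv, mul_one, neg_sub]
    have h3 := rank_of_smul_conj hn0 hS' (a := (itr (uE F n S)).1) (itr (uE F n S)).2 ?_ g hz
    · rw [h0] at h3
      have h4 : ((((uE F n S)⁻¹ : Matrix.SpecialLinearGroup (Fin n) F).1)ᵀ - 1).rank = (P F n 1 S).rank := by
        rw [← transpose_one, ← transpose_sub, rank_transpose, h2,
          rank_mul_eq_right_of_isUnit_det _ _ (by rw [hdet1]; exact isUnit_one)]
        have h5 : -(P F n 1 S) = (-1 : F) • P F n 1 S := by rw [neg_smul, one_smul]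
        rw [h5, ← smul_one_mul, rank_mul_eq_right_of_isUnit_det]
        rw [det_smul, det_one, mul_one]
        exact (IsUnit.neg isUnit_one).pow _
      rw [h4, rank_P hS] at h3
      exact h3
    · rw [h0, charpoly_transpose, eval_charpoly]
      have h6 : scalar (Fin n) (1 : F) - ((uE F n S)⁻¹ : Matrix.SpecialLinearGroup (Fin n) F).1 =
          ((uE F n S)⁻¹ : Matrix.SpecialLinearGroup (Fin n) F).1 * -(scalar (Fin n) (1 : F) - U F n S) := by
        rw [map_one, neg_sub, mul_sub, hinv, mul_one]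
      rw [h6, det_mul, det_neg, ← eval_charpoly, eval_charpoly_U hn0, mul_zero, mul_zero]

/-- three unipotent classes -/
theorem exists_unip [Fintype F] (hn : 4 ≤ n) {p : ℕ} [CharP F p] :
    ∃ s : Finset (Matrix.ProjectiveSpecialLinearGroup (Fin n) F), AutNC s ∧ (∀ g ∈ s, p ∣ orderOf g) ∧ s.card = 3 ∧
      pr (uE F n {0}) ∈ s := by
  classical
  let T : Fin 3 → Finset ℕ := fun k => Finset.range (k + 1)
  have hT : ∀ k, ∀ i ∈ T k, i + 1 < n := by
    intro k i hi
    have := Finset.mem_range.1 hi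
    have := k.2
    omega
  have hinj : ∀ j k : Fin 3, (T j).card = (T k).card → j = k := by
    intro j k h
    simp only [T, Finset.card_range] at h
    omega
  refine ⟨Finset.univ.image fun k => pr (uE F n (T k)), ?_, ?_, ?_, ?_⟩
  · intro g hg h hh φ hφ
    obtain ⟨j, -, rfl⟩ := Finset.mem_image.1 hg
    obtain ⟨k, -, rfl⟩ := Finset.mem_image.1 hh
    rw [hinj j k (aut_U (by omega) (hT j) (hT k) φ hφ)]
  · intro g hg
    obtain ⟨j, -, rfl⟩ := Finset.mem_image.1 hg
    exact dvd_orderOf (g := uE F n (T j)) fun m z _ h => singular_U (hT j) ⟨0, Finset.mem_range.2 (by omega)⟩ h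
  · rw [Finset.card_image_of_injective, Finset.card_univ, Fintype.card_fin]
    intro j k hjk
    exact hinj j k (aut_U (by omega) (hT j) (hT k) 1 hjk)
  · refine Finset.mem_image.2 ⟨0, Finset.mem_univ _, ?_⟩
    rfl

end aut

section act

open Projectivization

variable {F : Type*} [Field F] {n : ℕ}

theorem two_pre : MulAction.IsMultiplyPretransitive (Matrix.ProjectiveSpecialLinearGroup (Fin n) F)
    (Projectivization F (Fin n → F)) 2 := by
  have h : MulAction.IsMultiplyPretransitive (Matrix.SpecialLinearGroup (Fin n) F) (Projectivization F (Fin n → F)) 2 :=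
    inferInstance
  rw [MulAction.is_two_pretransitive_iff] at h ⊢
  intro a b c d hab hcd
  obtain ⟨g, h1, h2⟩ := h hab hcd
  exact ⟨QuotientGroup.mk g, h1, h2⟩

theorem mem_fixedBy_iff (A : Matrix.SpecialLinearGroup (Fin n) F) {v : Fin n → F} (hv : v ≠ 0) :
    Projectivization.mk F v hv ∈ MulAction.fixedBy (Projectivization F (Fin n → F)) (pr A) ↔
      ∃ c : F, (A : Matrix (Fin n) (Fin n) F) *ᵥ v = c • v := by
  rw [MulAction.mem_fixedBy]
  have h1 : (pr A : Matrix.ProjectiveSpecialLinearGroup (Fin n) F) • Projectivization.mk F v hv =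
      A • Projectivization.mk F v hv := rfl
  rw [h1, Projectivization.smul_mk, Projectivization.mk_eq_mk_iff']
  constructor
  · rintro ⟨c, hc⟩
    exact ⟨c, hc.symm⟩
  · rintro ⟨c, hc⟩
    exact ⟨c, hc.symm⟩

/-- one fixed point -/
theorem card_fixedBy_one (hn : 0 < n) {A : Matrix.SpecialLinearGroup (Fin n) F}
    (h1 : ∀ (v : Fin n → F) (c : F), v ≠ 0 → (A : Matrix (Fin n) (Fin n) F) *ᵥ v = c • v → c = 1 ∧
        ∀ i, v i = v ⟨0, hn⟩)
    (h2 : ∃ v : Fin n → F, v ≠ 0 ∧ (A : Matrix (Fin n) (Fin n) F) *ᵥ v = v) :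
    Nat.card (MulAction.fixedBy (Projectivization F (Fin n → F)) (pr A)) = 1 := by
  obtain ⟨v, hv, hAv⟩ := h2
  rw [Nat.card_eq_one_iff_unique]
  refine ⟨⟨?_⟩, ⟨⟨Projectivization.mk F v hv, (mem_fixedBy_iff A hv).2 ⟨1, by rw [one_smul]; exact hAv⟩⟩⟩⟩
  rintro ⟨x, hx⟩ ⟨y, hy⟩
  apply Subtype.ext
  change x = y
  induction x using Projectivization.ind with | _ a ha =>
  induction y using Projectivization.ind with | _ b hb =>
  obtain ⟨c, hc⟩ := (mem_fixedBy_iff A ha).1 hx
  obtain ⟨d, hd⟩ := (mem_fixedBy_iff A hb).1 hy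
  have ha' := (h1 a c ha hc).2
  have hb' := (h1 b d hb hd).2
  have hb0 : b ⟨0, hn⟩ ≠ 0 := by
    intro h
    apply hb
    ext i
    rw [hb' i, h]
    rfl
  rw [Projectivization.mk_eq_mk_iff']
  refine ⟨a ⟨0, hn⟩ / b ⟨0, hn⟩, ?_⟩
  ext i
  rw [Pi.smul_apply, smul_eq_mul, ha' i, hb' i, div_mul_cancel₀ _ hb0]

/-- `1 + E_{01}` fixes at least two points -/
theorem two_fixed (hn : 3 ≤ n) : Nat.card (MulAction.fixedBy (Projectivization F (Fin n → F)) (pr (uE F n {0}))) ≠ 1 := by
  intro h
  rw [Nat.card_eq_one_iff_unique] at h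
  obtain ⟨h, -⟩ := h
  have hne : ∀ k : Fin n, (Pi.single k (1 : F) : Fin n → F) ≠ 0 := fun k h => by
    have := congrFun h k
    rw [Pi.single_eq_same, Pi.zero_apply] at this
    exact one_ne_zero this
  have key : ∀ k : Fin n, (k : ℕ) ≠ 1 → Projectivization.mk F _ (hne k) ∈
      MulAction.fixedBy (Projectivization F (Fin n → F)) (pr (uE F n {0})) := by
    intro k hk
    refine (mem_fixedBy_iff _ (hne k)).2 ⟨1, ?_⟩
    rw [one_smul]
    change U F n {0} *ᵥ Pi.single k 1 = _
    ext i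
    rw [mulVec_single_one]
    change U F n {0} i k = _
    rw [U, Matrix.add_apply, P, one_apply, Pi.single_apply, if_neg (c := (k : ℕ) = i + 1 ∧ (i : ℕ) ∈ ({0} : Finset ℕ)),
      add_zero]
    rintro ⟨h1, h2⟩
    rw [Finset.mem_singleton] at h2
    omega
  have h1 := h.elim ⟨_, key ⟨0, by omega⟩ (by simp)⟩ ⟨_, key ⟨2, by omega⟩ (by simp)⟩
  have h2 := congrArg Subtype.val h1
  simp only at h2
  rw [Projectivization.mk_eq_mk_iff'] at h2
  obtain ⟨c, hc⟩ := h2
  have h3 := congrFun hc ⟨0, by omega⟩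
  rw [Pi.smul_apply, Pi.single_eq_same, Pi.single_eq_of_ne (by simp), smul_zero] at h3
  exact zero_ne_one h3

/-- the group is not commutative -/
theorem not_comm (hn : 2 ≤ n) : ¬ IsMulCommutative (Matrix.ProjectiveSpecialLinearGroup (Fin n) F) := by
  intro hcomm
  have hne : ∀ k : Fin n, (Pi.single k (1 : F) : Fin n → F) ≠ 0 := fun k h => by
    have := congrFun h k
    rw [Pi.single_eq_same, Pi.zero_apply] at this
    exact one_ne_zero this
  have hU : ∀ i k : Fin n, (U F n {0} *ᵥ Pi.single k 1) i = (if i = k then 1 else 0) +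
      (if (k : ℕ) = i + 1 ∧ (i : ℕ) ∈ ({0} : Finset ℕ) then 1 else 0) := by
    intro i k
    rw [mulVec_single_one]
    change U F n {0} i k = _
    rw [U, Matrix.add_apply, P, one_apply]
  have h0 : Projectivization.mk F _ (hne ⟨0, by omega⟩) ∈
      MulAction.fixedBy (Projectivization F (Fin n → F)) (pr (uE F n {0})) := by
    refine (mem_fixedBy_iff _ _).2 ⟨1, ?_⟩
    rw [one_smul]
    change U F n {0} *ᵥ Pi.single ⟨0, by omega⟩ 1 = _
    ext i
    rw [hU, if_neg (c := (_ : ℕ) = (i : ℕ) + 1 ∧ _), add_zero, Pi.single_apply]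
    rintro ⟨h1, -⟩
    simp at h1
  have hpre : MulAction.IsPretransitive (Matrix.ProjectiveSpecialLinearGroup (Fin n) F) (Projectivization F (Fin n → F)) := by
    have := two_pre (F := F) (n := n)
    exact MulAction.isPretransitive_of_is_two_pretransitive
  obtain ⟨g, hg⟩ := hpre.exists_smul_eq (Projectivization.mk F _ (hne ⟨0, by omega⟩))
    (Projectivization.mk F _ (hne ⟨1, by omega⟩))
  have h1 : Projectivization.mk F _ (hne ⟨1, by omega⟩) ∈
      MulAction.fixedBy (Projectivization F (Fin n → F)) (pr (uE F n {0})) := by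
    rw [MulAction.mem_fixedBy] at h0 ⊢
    rw [← hg, ← mul_smul, hcomm.is_comm.comm (pr (uE F n {0})) g, mul_smul, h0]
  obtain ⟨c, hc⟩ := (mem_fixedBy_iff _ _).1 h1
  have h2 := congrFun hc ⟨0, by omega⟩
  have h3 : (U F n {0} *ᵥ Pi.single (⟨1, by omega⟩ : Fin n) 1) ⟨0, by omega⟩ = 1 := by
    rw [hU, if_neg (by simp), if_pos ⟨rfl, Finset.mem_singleton.2 rfl⟩, zero_add]
  have h4 := h3.symm.trans h2
  rw [Pi.smul_apply, Pi.single_eq_of_ne (by simp), smul_zero] at h4
  exact one_ne_zero h4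

end act

variable {F : Type} [Field F] [Fintype F] {n : ℕ}

theorem isLie (hn : 4 ≤ n) {p : ℕ} (hp : CharP F p) :
    IsLieTypeChar p (Matrix.ProjectiveSpecialLinearGroup (Fin n) F) :=
  Or.inl ⟨F, inferInstance, inferInstance, hp, n, by omega, fun h => by omega, ⟨MulEquiv.refl _⟩⟩

theorem row2_psl (hn : 4 ≤ n) : Row2 (Matrix.ProjectiveSpecialLinearGroup (Fin n) F) := by
  obtain ⟨p, hp⟩ := CharP.exists F
  have hpp : p.Prime := (CharP.char_is_prime_or_zero F p).resolve_right (CharP.char_ne_zero_of_finite F p)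
  have hs : IsSimpleGroup (Matrix.ProjectiveSpecialLinearGroup (Fin n) F) := Cfsg.Agent.S0249.result n (by omega)
  obtain ⟨s, hs1, hs2, hs3, -⟩ := exists_unip (F := F) hn (p := p)
  exact row2_of_lie hpp (not_comm (by omega)) (isLie hn hp) s hs1 hs2 hs3.ge

/-- three elements with exactly one fixed point -/
theorem exists_fix (hn : 4 ≤ n) :
    ∃ s : Finset (Matrix.ProjectiveSpecialLinearGroup (Fin n) F), NonConj s ∧
      (∀ g ∈ s, Nat.card (MulAction.fixedBy (Projectivization F (Fin n → F)) g) = 1) ∧ s.card = 3 := by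
  classical
  have hmem : ∀ b : ℕ, b ∈ ({0, 2, 3} : Finset ℕ) → b = 0 ∨ b = 2 ∨ b = 3 := fun b hb => by simpa using hb
  have h1 : ∀ b : ({0, 2, 3} : Finset ℕ), ∃ (A : Matrix.SpecialLinearGroup (Fin n) F),
      (∀ (v : Fin n → F) (c : F), v ≠ 0 → (A : Matrix (Fin n) (Fin n) F) *ᵥ v = c • v → c = 1 ∧
        ∀ i, v i = v ⟨0, by omega⟩) ∧
      (∃ v : Fin n → F, v ≠ 0 ∧ (A : Matrix (Fin n) (Fin n) F) *ᵥ v = v) ∧
      ((A : Matrix (Fin n) (Fin n) F).charpoly.rootMultiplicity 1 = n - b) := by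
    rintro ⟨b, hb⟩
    have hb' := hmem b hb
    exact exists_one_fix (n := n) (b := b) (by omega) (by omega)
  choose A hA1 hA2 hA3 using h1
  have hconj : ∀ b c, IsConj (pr (A b)) (pr (A c)) → b = c := by
    intro b c h
    have h2 : Sim (A b : Matrix (Fin n) (Fin n) F) (A c : Matrix (Fin n) (Fin n) F) := sim_of_isConj h
    have h3 : Sim1 (A b : Matrix (Fin n) (Fin n) F) (A c : Matrix (Fin n) (Fin n) F) := by
      refine Sim.charpoly_eq' (by omega) h2 ?_ ?_
      · intro z hz
        obtain ⟨v, hv, hv2⟩ := (exists_eigen_iff _ _).2 hz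
        exact (hA1 b v z hv hv2).1
      · obtain ⟨v, hv, hv2⟩ := hA2 c
        exact (exists_eigen_iff _ _).1 ⟨v, hv, by rw [one_smul]; exact hv2⟩
    have h4 := h3.charpoly_eq
    have h5 := hA3 b
    rw [h4, hA3 c] at h5
    have hb := hmem b b.2
    have hc := hmem c c.2
    apply Subtype.ext
    omega
  refine ⟨Finset.univ.image fun b => pr (A b), ?_, ?_, ?_⟩
  · intro g hg h hh hc
    obtain ⟨j, -, rfl⟩ := Finset.mem_image.1 hg
    obtain ⟨k, -, rfl⟩ := Finset.mem_image.1 hh
    rw [hconj j k hc]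
  · intro g hg
    obtain ⟨j, -, rfl⟩ := Finset.mem_image.1 hg
    exact card_fixedBy_one (by omega) (hA1 j) (hA2 j)
  · rw [Finset.card_image_of_injective, Finset.card_univ, Fintype.card_coe]
    · rfl
    · intro j k hjk
      refine hconj j k ?_
      have hjk' : pr (A j) = pr (A k) := hjk
      rw [hjk']

theorem row1_psl (hn : 4 ≤ n) : Row1 (Matrix.ProjectiveSpecialLinearGroup (Fin n) F) := by
  classical
  left
  obtain ⟨p, hp⟩ := CharP.exists F
  have hpp : p.Prime := (CharP.char_is_prime_or_zero F p).resolve_right (CharP.char_ne_zero_of_finite F p)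
  have hs : IsSimpleGroup (Matrix.ProjectiveSpecialLinearGroup (Fin n) F) := Cfsg.Agent.S0249.result n (by omega)
  have : Fact p.Prime := ⟨hpp⟩
  obtain ⟨s, hs1, hs2, hs3, hs4⟩ := exists_unip (F := F) hn (p := p)
  obtain ⟨t, ht1, ht2, ht3⟩ := exists_fix (F := F) hn
  obtain ⟨θ, hθ, -⟩ := Cfsg.Agent.H761.LieExt.lie_ext (not_comm (by omega)) (isLie (F := F) hn hp)
  have hθ' : (charDegree (θ : Matrix.ProjectiveSpecialLinearGroup (Fin n) F → ℂ)).factorization p =
      (Nat.card (Matrix.ProjectiveSpecialLinearGroup (Fin n) F)).factorization p := by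
    rw [hθ, Nat.factorization_pow, Finsupp.smul_apply, hpp.factorization_self, smul_eq_mul, mul_one]
  have hz : ∀ g ∈ s, (θ : Matrix.ProjectiveSpecialLinearGroup (Fin n) F → ℂ) g = 0 := fun g hg =>
    Cfsg.Agent.H713.irr_zero_of_singular hθ' (hs2 g hg)
  have hfin : Finite (Projectivization F (Fin n → F)) := Quotient.finite _
  have hpre : MulAction.IsPretransitive (Matrix.ProjectiveSpecialLinearGroup (Fin n) F) (Projectivization F (Fin n → F)) := by
    have := two_pre (F := F) (n := n)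
    exact MulAction.isPretransitive_of_is_two_pretransitive
  have h2 : 2 ≤ Nat.card (Projectivization F (Fin n → F)) := by
    by_contra hlt
    have h3 : Nat.card (Projectivization F (Fin n → F)) ≤ 1 := by omega
    have hsub : Subsingleton (Projectivization F (Fin n → F)) := Finite.card_le_one_iff_subsingleton.1 h3
    have hne : ∀ k : Fin n, (Pi.single k (1 : F) : Fin n → F) ≠ 0 := fun k h => by
      have := congrFun h k
      rw [Pi.single_eq_same, Pi.zero_apply] at this
      exact one_ne_zero this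
    have h4 := hsub.elim (Projectivization.mk F _ (hne ⟨0, by omega⟩)) (Projectivization.mk F _ (hne ⟨1, by omega⟩))
    rw [Projectivization.mk_eq_mk_iff'] at h4
    obtain ⟨c, hc⟩ := h4
    have h5 := congrFun hc ⟨0, by omega⟩
    rw [Pi.smul_apply, Pi.single_eq_same, Pi.single_eq_of_ne (by simp), smul_zero] at h5
    exact zero_ne_one h5
  have hirr := (Cfsg.Agent.S0157.result (G := Matrix.ProjectiveSpecialLinearGroup (Fin n) F)
    (Projectivization F (Fin n → F)) h2).2 two_pre
  refine two_of_zeros (χ := ⟨_, hirr⟩) (ψ := θ) ?_ t s ht1 hs1.nonConj ?_ hz ht3.ge hs3.ge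
  · intro h
    have h3 := hz _ hs4
    rw [← h] at h3
    change (Nat.card (MulAction.fixedBy (Projectivization F (Fin n → F)) (pr (uE F n {0}))) : ℂ) - 1 = 0 at h3
    rw [sub_eq_zero] at h3
    exact two_fixed (F := F) (n := n) (by omega) (by exact_mod_cast h3)
  · intro g hg
    change (Nat.card (MulAction.fixedBy (Projectivization F (Fin n → F)) g) : ℂ) - 1 = 0
    rw [ht2 g hg, Nat.cast_one, sub_self]

end Cfsg.Agent.H679.TwoPsl
end
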