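import Cfsg.Agent.H679.OutTwo
import Cfsg.Agent.KFacts.He.Outer
import Cfsg.Agent.KFacts.Baby.RowB_m3
import Cfsg.Agent.KFacts.MonsterM
import Cfsg.Agent.MonsterX.InstanceFinal_m3
import Cfsg.Agent.H850.MonSub
import Cfsg.Agent.Prune
set_option linter.all false
prune_inst 0x7f00000000000000000000000000000000000000000000000000000000000000000000000000000000000000000000000000000000000000000000000000000000000000000000000000000000000000003fffffffffffffffffffffffffffbeffbdffffffff

/-!
# Outer automorphisms of `He`, `B`, `M` (helper679)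

`OutTwo K` for `He`, `B`, `M` (proofs after `BpSpor.Inn`, helper5).
-/

set_option autoImplicit false

namespace Cfsg.Agent.H679.SporOut

open Cfsg Cfsg.Agent.H679 Cfsg.Agent.H679.OutTwo

theorem he {K : Type*} [Group K] (h : Spor.IsoHe K) : OutTwo K :=
  of_index (Cfsg.Agent.KFacts.He.Outer.index_le_two h)

section b

open Cfsg.Agent.BabyM Cfsg.Agent.BabyM.Model Cfsg.Agent.BabyU.ClosModel Cfsg.Agent.BabyU.ClosLane

theorem b {K : Type*} [Group K] (h : Spor.IsoB K) : OutTwo K := by
  have := A.finite_G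
  obtain ⟨e⟩ := h
  obtain ⟨f⟩ := Cfsg.Agent.KFacts.Baby.RowB.exists_iso ⟨MulEquiv.refl Cfsg.Spor.BabyMonster⟩
  exact OutTwo.congr (e.trans f.symm) (of_inner
    (Cfsg.Agent.KFacts.Baby.Sheet.data Cfsg.Agent.KFacts.CoTwo.InnerB.inner Cfsg.Agent.KFacts.Baby.Row.fix).allInner)

end b

section m

open Cfsg.Spor (Co1)
open Cfsg.Agent.MonsterX Cfsg.Agent.MonsterX.Model Cfsg.Agent.MonsterX.MainSimple Cfsg.Agent.MonsterX.MainBasic

theorem m_model {W : Type} [AddCommGroup W] [Module ℚ W] {M : MData W} (hG : MGroup M Co1) (hR : MRep M)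
    (hL : MLat M) (hO : MOrbit M) (hT : MTrans M) : OutTwo M.G := by
  have hfin := G_finite hO
  have hco := Cfsg.Agent.KFacts.MonsterE.simple_Co1
  obtain ⟨π, D⟩ := Cfsg.Agent.KFacts.MonsterE.data_model hG hR hL hO hT
  exact of_inner D.inner

theorem m {K : Type*} [Group K] (h : Spor.IsoM K) : OutTwo K := by
  obtain ⟨e⟩ := h
  obtain ⟨f⟩ := Cfsg.Agent.MonsterP.Equiv.equiv
  exact OutTwo.congr (e.trans f) (m_model Instance.mGroup Instance.mRep Instance.mLat InstanceFinal.mOrbit
    Instance.mTrans)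

end m

end Cfsg.Agent.H679.SporOut
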